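import Cfsg.Agent.Lib.CoType29.DistinctFix

/-!
# A typed involution is not conjugate to `z` (written by helper29)

If `x = b q` of type `ε` were a conjugate of `z`, then `O₂(C(z)) ∩ O₂(C(x)) = 1`, so the at
least sixteen elements of `O₂(C(x)) ∩ C(z)` would induce pairwise distinct isometries fixing the
five-space `C(x) ∩ O₂(C(z))` pointwise, no two differing by a transvection: too many.
-/

set_option autoImplicit false
set_option synthInstance.maxSize 1024

namespace Cfsg.Agent.Lib.CoType29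

open Co1Type47 LargeExtra

variable {G : Type*} [Group G] {z s : G} {Qf : G → Subgroup G}

/-- The other centre is a conjugate of `z`. -/
theorem isConj_centre (H : Co1Type47.Hyp z Qf) (P : Co1Type47.Pair z s Qf) : IsConj z s := by
  obtain ⟨g, hg, hne⟩ := H.witness
  refine (isConj_iff.2 ⟨g, rfl⟩).trans (P.isConj_of_mem hg ?_ (fun e => P.gz.x_ne ?_) hne)
  · calc g * z * g⁻¹ * (g * z * g⁻¹) = g * (z * z) * g⁻¹ := by group
      _ = 1 := by rw [P.zz]; group
  · exact conj_eq_one_iff.1 e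

/-- Every involution of `O₂(C(z))` other than `z` gives a pair with `z`. -/
theorem exists_pair [Finite G] (H : Co1Type47.Hyp z Qf) (P : Co1Type47.Pair z s Qf) {d : G}
    (hd : d ∈ Qf z) (hdd : d * d = 1) (hd1 : d ≠ 1) (hdz : d ≠ z) :
    Nonempty (Co1Type47.Pair z d Qf) := by
  obtain ⟨g, hg⟩ := isConj_iff.1 ((isConj_centre H P).trans (P.isConj_of_mem hd hdd hd1 hdz).symm)
  have gd : Good (Qf d) d := hg ▸ H.goodAt g
  obtain ⟨D'⟩ : Nonempty (Data d (Qf d)) := hg ▸ H.dataAt g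
  have hz : z ∈ Qf d := H.coreMap.orth_symm gd P.gz hd
  have point : ∀ {c : G} {R : Subgroup G} (D : Data c R), Good R c → ∀ {u : G}, u ∈ R → u * u = 1 →
      u ≠ 1 → u ≠ c → ∃ g : Iso, g.map (D.phi u) = e₀ := by
    intro c R D hR u hu huu hu1 huc
    have h0 : D.phi u ≠ 0 := fun h => ((D.phi_eq_zero u hu).1 h).elim hu1 huc
    obtain ⟨g, hg⟩ := witt (n := 1) ![D.phi u] ![e₀]
      (linearIndependent_unique_iff.2 (by simpa using h0))
      (linearIndependent_unique_iff.2 (by simpa using e₀_ne))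
      (fun i => by fin_cases i; simp [(D.sq_iff u hu).1 huu, qV_e₀])
      (fun i j => by fin_cases i; fin_cases j; simp [bV_self])
    exact ⟨g, hg 0⟩
  obtain ⟨g₁, h₁⟩ := point P.D P.gz hd hdd hd1 hdz
  obtain ⟨g₂, h₂⟩ := point D' gd hz P.zz P.gz.x_ne (Ne.symm hdz)
  exact ⟨⟨H.coreMap, P.gz, gd, P.D.recoord g₁, D'.recoord g₂, hd, hz, h₁, h₂⟩⟩

/-- At least sixteen elements of `O₂(C(x))` commute with `z`, for a conjugate `x` of `z` in
`C(z)`. -/
theorem card_core_cent [Finite G] (H : Co1Type47.Hyp z Qf) (g : G)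
    (hxz : z * (g * z * g⁻¹) = g * z * g⁻¹ * z) :
    16 ≤ Nat.card ↥(Qf (g * z * g⁻¹) ⊓ Subgroup.centralizer ({z} : Set G) : Subgroup G) := by
  classical
  obtain ⟨D⟩ := H.dataAt g
  have gx := H.goodAt g
  set x := g * z * g⁻¹
  set A := Qf x ⊓ Subgroup.centralizer ({z} : Set G)
  have hadd := D.act_add hxz (fun a ha => gx.norm z hxz a ha)
  have ht : Inv8 (D.act z) := ⟨hadd, D.act_iso z hxz, fun v => by
    rw [← D.act_mul gx hxz hxz, H.good.x_sq, D.act_one gx]⟩
  have hK : 16 ≤ Nat.card ht.move.ker := by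
    obtain ⟨h1, h2⟩ := ht.card_move
    nlinarith
  choose lift hlift hliftphi using D.phi_surj
  -- the elements above a fixed vector
  let el : ↥ht.move.ker × ZMod 2 → G := fun p => lift p.1 * bpow x p.2
  have hel : ∀ p, el p ∈ Qf x := fun p => mul_mem (hlift _) (by
    rcases bpow_cases x p.2 with e | e <;> rw [e]
    exacts [one_mem _, gx.x_mem])
  have helphi : ∀ p, D.phi (el p) = p.1 := fun p => by
    show D.phi (lift p.1 * bpow x p.2) = _
    rcases bpow_cases x p.2 with e | e <;> rw [e]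
    · rw [mul_one, hliftphi]
    · rw [D.phi_mul_z gx (hlift _), hliftphi]
  have hmoved : ∀ p, el p * z ≠ z * el p → z * el p * z⁻¹ = el p * x := fun p hne => by
    refine (D.eq_or_of_phi_eq gx (gx.norm z hxz _ (hel p)) (hel p) ?_).resolve_left
      fun e => hne (conj_eq_iff_comm.1 e).symm
    rw [D.act_phi z hxz _ (hel p), helphi]
    have h0 : D.act z p.1 + p.1 = 0 := p.1.2
    exact Co1Type47.add_eq_zero.1 h0
  have hinj : Function.Injective el := by
    intro p p' e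
    have h1 : p.1 = p'.1 := Subtype.ext (by rw [← helphi, ← helphi, e])
    have h2 : bpow x p.2 = bpow x p'.2 := by
      simpa [el, h1] using e
    exact Prod.ext h1 (bpow_inj gx.x_ne h2)
  have hA : ∀ {a : G}, a ∈ Qf x → a * z = z * a → a ∈ A := fun ha hc =>
    ⟨ha, Subgroup.mem_centralizer_singleton_iff.2 hc⟩
  -- translate the moved elements by one of them
  obtain ⟨a₀, ha₀⟩ : ∃ a₀ : G, ∀ p, el p * z ≠ z * el p → el p * a₀ ∈ A := by
    by_cases h : ∃ p, el p * z ≠ z * el p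
    · obtain ⟨p₀, h₀⟩ := h
      refine ⟨el p₀, fun p hp => hA (mul_mem (hel p) (hel p₀)) (conj_eq_iff_comm.1 ?_).symm⟩
      calc z * (el p * el p₀) * z⁻¹ = (z * el p * z⁻¹) * (z * el p₀ * z⁻¹) := by group
        _ = el p * (x * el p₀) * x := by rw [hmoved p hp, hmoved p₀ h₀]; group
        _ = el p * el p₀ * (x * x) := by rw [← gx.le_cent _ (hel p₀)]; group
        _ = _ := by rw [gx.x_sq, mul_one]
    · exact ⟨1, fun p hp => absurd ⟨p, hp⟩ h⟩
  let f : ↥ht.move.ker × ZMod 2 → ↥A ⊕ ↥A := fun p =>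
    if h : el p * z = z * el p then .inl ⟨el p, hA (hel p) h⟩ else .inr ⟨el p * a₀, ha₀ p h⟩
  have hf : Function.Injective f := by
    intro p p' e
    simp only [f] at e
    split_ifs at e with h h' h' <;>
      first
        | exact hinj (congrArg Subtype.val (Sum.inl.inj e))
        | exact hinj (mul_right_cancel (congrArg Subtype.val (Sum.inr.inj e)))
        | exact (Sum.inl_ne_inr e).elim
        | exact (Sum.inr_ne_inl e).elim
  have h := Nat.card_le_card_of_injective f hf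
  rw [Nat.card_prod, Nat.card_sum, Nat.card_zmod] at h
  omega

/-- Facts about the representative pairs and the partner used below. -/
theorem rep_move : ∀ ε : ZMod 2, ∃ v' : W6, v' ≠ 0 ∧ repA ε ≠ v' ∧ qW v' = ε ∧
    bW (repA ε) v' = ε ∧ bW u₂ (repA ε) = 0 ∧ bW u₂ v' = 0 ∧
    ∀ j : ZMod 2, repV ε + v' ≠ j • repA ε := by decide +kernel

theorem dual_facts : ∀ ε : ZMod 2, bW (yA ε) (repA ε) = 1 := by decide

namespace Rep

variable {P : Co1Type47.Pair z s Qf} {ε : ZMod 2} {x b q : G}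

/-- The induced map. -/
theorem act_eq (hp : P.Parts ε x b q) (v : V8) : P.D.act x v = siegel (P.alpha b) v := by
  rw [hp.eq, P.D.act_mul P.gz hp.hbz (P.gz.le_cent q hp.hq), P.D.act_of_mem P.gz hp.hq,
    P.act_eq hp.hb hp.hbz]

theorem comm_z (hp : P.Parts ε x b q) : x * z = z * x :=
  hp.eq ▸ (P.parts_commute hp.hb hp.hbz hp.hq hp.hqs).1

/-- The five-space consists of coordinates of elements commuting with `x`. -/
theorem commute_inU (hp : P.Parts ε x b q) (ha : P.alpha b = repA ε) (hv : P.wPart q = repV ε)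
    {m : G} (hm : m ∈ Qf z) (hu : InU ε (P.D.phi m)) : x * m = m * x := by
  have hms : m * s = s * m := (P.commute_s hm).2 hu.1
  refine conj_eq_iff_comm.1 ?_
  have h1 : q * m * q⁻¹ = m := by
    rw [P.D.conj_eq P.gz hm hp.hq,
      show bV (P.D.phi q) (P.D.phi m) = bW (P.wPart q) (P.D.phi m).2.2 by
        simp [bV, Pair.wPart, hu.1, (P.commute_s hp.hq).1 hp.hqs],
      hv, bW_comm, hu.2.2, bpow_zero, mul_one]
  have h2 : b * m * b⁻¹ = m := by
    rw [P.comm_BQ hp.hb hp.hbz hm hms, ha, show P.wPart m = (P.D.phi m).2.2 from rfl, hu.2.1,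
      bpow_zero, mul_one]
  calc x * m * x⁻¹ = b * (q * m * q⁻¹) * b⁻¹ := by rw [hp.eq]; group
    _ = m := by rw [h1, h2]

/-- For a conjugate `x` of `z`, the two cores meet trivially. -/
theorem inf_core_eq_one [Finite G] (H : Co1Type47.Hyp z Qf) (hp : P.Parts ε x b q)
    (ha : P.alpha b = repA ε) (hv : P.wPart q = repV ε) (gx : Good (Qf x) x) {d : G}
    (hdz : d ∈ Qf z) (hdx : d ∈ Qf x) : d = 1 := by
  by_contra hd1
  have hxQ : x ∉ Qf z := fun h => hp.a_ne (by
    have e := act_eq hp f₀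
    rw [P.D.act_of_mem P.gz h] at e
    simpa [siegel, f₀] using (congrArg (fun u : V8 => u.2.2) e).symm)
  have hzx : z ≠ x := fun e => hxQ (e ▸ P.gz.x_mem)
  have hdd : d * d = 1 := (P.gz.sq_cases hdz).elim id fun e => (gx.sq_cases hdx).elim id
    fun e' => absurd (e.symm.trans e') hzx
  have hdne : d ≠ z := fun e => hxQ (H.coreMap.orth_symm P.gz gx (e ▸ hdx))
  obtain ⟨P'⟩ := exists_pair H P hdz hdd hd1 hdne
  have hxd : x ∈ Qf d := H.coreMap.orth_symm P'.gs gx hdx
  have hphiP : ∀ {e : G}, InP z d e → P.D.phi e = 0 ∨ P.D.phi e = P.D.phi d := by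
    rintro e (rfl | rfl | rfl | rfl)
    exacts [Or.inl (P.D.phi_one P.gz), Or.inl (P.D.phi_z P.gz), Or.inr rfl,
      Or.inr (P.D.phi_mul_z P.gz hdz)]
  have hxz := comm_z hp
  -- the moved space of `x`
  have hmove : ∀ u, bV u (P.D.phi d) = 0 →
      siegel (repA ε) u + u = 0 ∨ siegel (repA ε) u + u = P.D.phi d := by
    intro u hu
    obtain ⟨m, hm, rfl⟩ := P.D.phi_surj u
    have hmd : m * d = d * m := (P.D.comm_iff m hm d hdz).2 hu
    have h1 : x * m * x⁻¹ * m⁻¹ ∈ Qf z := mul_mem (P.gz.norm x hxz m hm) (inv_mem hm)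
    have h2 : x * m * x⁻¹ * m⁻¹ ∈ Qf d := by
      simpa [mul_assoc] using mul_mem hxd (P'.gs.norm m hmd _ (inv_mem hxd))
    have h3 := hphiP (P'.inP_of_both h1 h2)
    rwa [P.D.phi_mul _ (P.gz.norm x hxz m hm) _ (inv_mem hm), P.D.act_phi x hxz m hm,
      P.D.phi_inv P.gz hm, act_eq hp, ha] at h3
  obtain ⟨i, j, hij⟩ : ∃ i j : ZMod 2, P.D.phi d = (i, 0, j • repA ε) := by
    have hy := dual_facts ε
    have hqy : ∀ u : V8, u = f₀ ∨ u = emb (yA ε) ∨ u = f₀ + emb (yA ε) →
        ∃ i j : ZMod 2, siegel (repA ε) u + u = (i, 0, j • repA ε) ∧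
          siegel (repA ε) u + u ≠ 0 := by
      have h0 : repA ε ≠ 0 := (rep_facts ε).1
      rintro u (rfl | rfl | rfl)
      · exact ⟨qW (repA ε), 1, by simp [siegel, f₀, bW, bH, Prod.ext_iff, h2zero],
          by simp [siegel, f₀, Prod.ext_iff, h0]⟩
      · exact ⟨1, 0, by simp [siegel, emb, hy, Prod.ext_iff, add_self_w, h2zero],
          by simp [siegel, emb, hy, Prod.ext_iff, h2zero]⟩
      · refine ⟨1 + qW (repA ε), 1, ?_, ?_⟩
        · simp only [siegel, f₀, emb, Prod.mk_add_mk, add_zero, zero_add, hy, one_mul, one_smul,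
            Prod.ext_iff]
          exact ⟨trivial, h2zero 1, by simp [add_comm (yA ε), add_assoc, add_self_w]⟩
        · intro e
          have := congrArg (fun w : V8 => w.2.2) e
          simp [siegel, f₀, emb, Prod.ext_iff, add_comm (yA ε) (repA ε), add_assoc, add_self_w,
            h0] at this
    obtain ⟨u, hu3, hu0⟩ : ∃ u, (u = f₀ ∨ u = emb (yA ε) ∨ u = f₀ + emb (yA ε)) ∧
        bV u (P.D.phi d) = 0 := by
      rcases zmod_cases (bV f₀ (P.D.phi d)) with r | r
      · exact ⟨_, Or.inl rfl, r⟩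
      rcases zmod_cases (bV (emb (yA ε)) (P.D.phi d)) with r' | r'
      · exact ⟨_, Or.inr (Or.inl rfl), r'⟩
      · exact ⟨_, Or.inr (Or.inr rfl), by rw [bV_add_left, r, r']; decide⟩
    obtain ⟨i, j, e, hne⟩ := hqy u hu3
    exact ⟨i, j, ((hmove u hu0).resolve_left hne).symm.trans e⟩
  -- a stabiliser of `d` moving `v`
  obtain ⟨v', hv'0, hav', hqv', hbv', ho1, ho2, hsum⟩ := rep_move ε
  obtain ⟨r1, r2, r3, r4, r5, r6, -, -, -⟩ := rep_facts ε
  obtain ⟨c, hcz, hcs, hce, hc⟩ := P.exists_map ![repA ε, repV ε] ![repA ε, v']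
    (indep_triple r1 r2 r3) (indep_triple r1 hv'0 hav')
    (fun k => by fin_cases k <;> simp [r5, hqv'])
    (fun k l => by
      fin_cases k <;> fin_cases l <;>
        simp [bW_self, r6, hbv', bW_comm (repV ε) (repA ε), bW_comm v' (repA ε)])
    u₂ (by decide) (fun k => by fin_cases k <;> simp [ho1, ho2])
  have hca : P.D.act c (emb (repA ε)) = emb (repA ε) := hc 0
  have hcv : P.D.act c (emb (repV ε)) = emb v' := hc 1
  have hcd : P.D.act c (P.D.phi d) = P.D.phi d := by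
    have hsplit : P.D.phi d = (if i = 0 then 0 else e₀) + (if j = 0 then 0 else emb (repA ε)) := by
      rw [hij]
      rcases zmod_cases i with rfl | rfl <;> rcases zmod_cases j with rfl | rfl <;>
        simp [e₀, emb]
    rw [hsplit, P.D.act_add hcz fun a ha => P.gz.norm c hcz a ha]
    congr 1 <;> split_ifs <;> simp [P.D.act_zero P.gz hcz, hce, hca]
  obtain ⟨c', hc'z, hc's, hc'd, hc'act⟩ : ∃ c', c' * z = z * c' ∧ c' * s = s * c' ∧
      c' * d * c'⁻¹ = d ∧ ∀ w, P.D.act c' w = P.D.act c w := by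
    have hphi : P.D.phi (c * d * c⁻¹) = P.D.phi d := by rw [P.D.act_phi c hcz d hdz, hcd]
    rcases P.D.eq_or_of_phi_eq P.gz (P.gz.norm c hcz d hdz) hdz hphi with e | e
    · exact ⟨c, hcz, hcs, e, fun w => rfl⟩
    · rcases zmod_cases j with rfl | rfl
      · have hdP : InP z s d := (P.inP_iff hdz).2 (by
          rw [hij]
          rcases zmod_cases i with rfl | rfl <;> simp [e₀])
        exact ⟨c, hcz, hcs, P.comm_conj_fix hcz hcs hdP, fun w => rfl⟩
      · obtain ⟨m, hm, hmu⟩ := P.D.phi_surj (emb (yA ε))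
        have hmz := P.gz.le_cent m hm
        have hms : m * s = s * m := (P.commute_s hm).2 (by rw [hmu]; rfl)
        have hmd : m * d * m⁻¹ = d * z := by
          rw [P.D.conj_eq P.gz hdz hm, hmu, hij,
            show bV (emb (yA ε)) (i, 0, (1 : ZMod 2) • repA ε) = 1 by
              simp [bV, emb, dual_facts ε], bpow_one]
        refine ⟨m * c, ((Commute.mul_left hmz hcz) :), ((Commute.mul_left hms hcs) :), ?_,
          fun w => by rw [P.D.act_mul P.gz hmz hcz, P.D.act_of_mem P.gz hm]⟩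
        calc m * c * d * (m * c)⁻¹ = m * (c * d * c⁻¹) * m⁻¹ := by group
          _ = (m * d * m⁻¹) * (m * z * m⁻¹) := by rw [e]; group
          _ = d := by rw [hmd, hmz, mul_inv_cancel_right, mul_assoc, P.zz, mul_one]
  set b' := c' * b * c'⁻¹ with hb'def
  set q' := c' * q * c'⁻¹ with hq'def
  have hb' : b' ∈ Qf s := P.gs.norm c' hc's b hp.hb
  have hb'z : b' * z = z * b' :=
    ((Commute.mul_left (Commute.mul_left hc'z hp.hbz) (Commute.inv_left hc'z)) :)
  have hq' : q' ∈ Qf z := P.gz.norm c' hc'z q hp.hq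
  have ha' : P.alpha b' = repA ε := by
    rw [P.alpha_conj hp.hb hp.hbz hc'z hc's, ha, hc'act, hca]; rfl
  have hv2 : P.wPart q' = v' := by
    rw [P.wPart_conj hc'z (by rw [hc'act, hce]) hp.hq hp.hqs, hv, hc'act, hcv]; rfl
  have hbz := hp.hbz
  have hbi : b⁻¹ * z = z * b⁻¹ := (Commute.inv_left hbz :)
  have hbb : InP z s (b⁻¹ * b') := P.mem_of_alpha_eq_zero (mul_mem (inv_mem hp.hb) hb')
    ((Commute.mul_left hbi hb'z) :)
    (by rw [P.alpha_mul (inv_mem hp.hb) hbi hb' hb'z, P.alpha_inv hp.hb hbz, ha, ha', add_self_w])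
  have hbbQ : b⁻¹ * b' ∈ Qf z := by
    rcases hbb with e | e | e | e <;> rw [e]
    exacts [one_mem _, P.gz.x_mem, P.s_mem, mul_mem P.s_mem P.gz.x_mem]
  have he : x⁻¹ * (c' * x * c'⁻¹) = q⁻¹ * (b⁻¹ * b') * q' := by
    rw [hb'def, hq'def, hp.eq]; group
  have h1 : x⁻¹ * (c' * x * c'⁻¹) ∈ Qf z := he ▸ mul_mem (mul_mem (inv_mem hp.hq) hbbQ) hq'
  have h2 : x⁻¹ * (c' * x * c'⁻¹) ∈ Qf d :=
    mul_mem (inv_mem hxd) (P'.gs.norm c' (conj_eq_iff_comm.1 hc'd) x hxd)
  have h3 := hphiP (P'.inP_of_both h1 h2)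
  rw [he, P.D.phi_mul _ (mul_mem (inv_mem hp.hq) hbbQ) _ hq',
    P.D.phi_mul _ (inv_mem hp.hq) _ hbbQ, P.D.phi_inv P.gz hp.hq] at h3
  have hbb2 : (P.D.phi (b⁻¹ * b')).2.2 = 0 := by
    rcases (P.inP_iff hbbQ).1 hbb with e | e <;> rw [e] <;> rfl
  rcases h3 with e | e
  · refine hsum 0 ?_
    have := congrArg (fun w : V8 => w.2.2) e
    simp only [Prod.snd_add, hbb2, add_zero] at this
    rw [← hv, ← hv2, zero_smul]
    exact this
  · refine hsum j ?_
    have := congrArg (fun w : V8 => w.2.2) e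
    simp only [Prod.snd_add, hbb2, add_zero, hij] at this
    rw [← hv, ← hv2]
    exact this

end Rep

/-- A typed involution is not conjugate to the centre. -/
theorem not_isConj_typed [Finite G] (H : Co1Type47.Hyp z Qf) (P : Co1Type47.Pair z s Qf)
    {ε : ZMod 2} {x : G} (hx : P.Typed ε x) : ¬ IsConj z x := by
  intro hzx
  obtain ⟨c₀, b, q, -, -, hp, ha, hv⟩ := P.exists_conj_rep hx
  obtain ⟨g, hg⟩ := isConj_iff.1 (hzx.trans (isConj_iff.2 ⟨c₀, rfl⟩))
  have gx : Good (Qf (c₀ * x * c₀⁻¹)) (c₀ * x * c₀⁻¹) := hg ▸ H.goodAt g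
  have hxz := Rep.comm_z hp
  have h16 := card_core_cent H g (by rw [hg]; exact hxz.symm)
  rw [hg] at h16
  set x₁ := c₀ * x * c₀⁻¹
  have hAz : ∀ a : ↥(Qf x₁ ⊓ Subgroup.centralizer ({z} : Set G) : Subgroup G),
      (a : G) * z = z * a := fun a => Subgroup.mem_centralizer_singleton_iff.1 a.2.2
  refine absurd h16 (not_le.2 (card_fixU_lt (ε := ε) (fun a => P.D.act (a : G)) ?_ ?_ ?_))
  · intro a a' e
    have hai : (a : G)⁻¹ * z = z * (a : G)⁻¹ := (Commute.inv_left (hAz a) :)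
    have h1 : (a : G)⁻¹ * a' ∈ Qf z := P.D.act_eq_id _ ((Commute.mul_left hai (hAz a')) :)
      fun v => by
        have e' : P.D.act (a : G) v = P.D.act (a' : G) v := congrFun e v
        rw [P.D.act_mul P.gz hai (hAz a'), ← e', P.D.act_inv_act P.gz (hAz a)]
    exact Subtype.ext
      (inv_mul_eq_one.1 (Rep.inf_core_eq_one H hp ha hv gx h1 (mul_mem (inv_mem a.2.1) a'.2.1)))
  · intro a
    refine ⟨P.D.act_add (hAz a) (fun m hm => P.gz.norm _ (hAz a) m hm), P.D.act_iso _ (hAz a),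
      fun u hu => ?_⟩
    obtain ⟨m, hm, rfl⟩ := P.D.phi_surj u
    have hmx := (Rep.commute_inU hp ha hv hm hu).symm
    have h1 : (a : G) * m * (a : G)⁻¹ * m⁻¹ ∈ Qf z :=
      mul_mem (P.gz.norm _ (hAz a) m hm) (inv_mem hm)
    have h2 : (a : G) * m * (a : G)⁻¹ * m⁻¹ ∈ Qf x₁ := by
      simpa [mul_assoc] using mul_mem a.2.1 (gx.norm m hmx _ (inv_mem a.2.1))
    rw [← P.D.act_phi _ (hAz a) m hm]
    congr 1
    exact mul_inv_eq_one.1 (Rep.inf_core_eq_one H hp ha hv gx h1 h2)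
  · intro a a' v hv' e
    have hai : (a' : G)⁻¹ * z = z * (a' : G)⁻¹ := (Commute.inv_left (hAz a') :)
    refine P.D.act_ne_refl ((a : G) * (a' : G)⁻¹) ((Commute.mul_left (hAz a) hai) :) v hv'
      fun w => ?_
    rw [P.D.act_mul P.gz (hAz a) hai]
    refine (congrFun e _).trans ?_
    show refl v _ = _
    rw [← P.D.act_mul P.gz (hAz a') hai, mul_inv_cancel, P.D.act_one P.gz]

end Cfsg.Agent.Lib.CoType29
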