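import Mathlib
import Cfsg.Agent.Lib.ExtraTwo.Coord
import Cfsg.Agent.Lib.Extraspecial.SquareCount

/-!
# Quadratic coordinates on extraspecial 2-groups of either type (written by helper29)
-/

set_option autoImplicit false

namespace Cfsg.Agent.Lib.CoType29

open Subgroup Cfsg.Agent.Lib.ExtraStruct Cfsg.Agent.Lib.ExtraTwoCoord
open scoped commutatorElement

universe u

/-- A symplectic family for the involution `σ` with squares prescribed by `s`. -/
def IsFamily {E : Type u} [Group E] {ι : Type} [DecidableEq ι] (σ : ι → ι) (s : ι → ZMod 2) (w : ι → E) : Prop :=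
  (∀ i j, bit ⁅w i, w j⁆ = if j = σ i then 1 else 0) ∧ ∀ i, bit (w i ^ 2) = s i

/-- The partner map of the minus family. -/
def minusSwap {k : ℕ} : (Fin k ⊕ Fin k) ⊕ Fin 2 → (Fin k ⊕ Fin k) ⊕ Fin 2
  | .inl i => .inl i.swap
  | .inr i => .inr i.rev

/-- The square values of the minus family. -/
def minusSq {k : ℕ} : (Fin k ⊕ Fin k) ⊕ Fin 2 → ZMod 2
  | .inl _ => 0
  | .inr _ => 1

theorem isFamily_extend {E : Type u} [Group E] [Finite E] [Fact (Nat.Prime 2)] (h : ExtraLike 2 E)
    {ι κ : Type} [DecidableEq ι] [DecidableEq κ] {x y : E} (hxy : ⁅x, y⁆ ≠ 1) (hx : x ^ 2 = 1)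
    (hy : y ^ 2 = 1) {σ : ι → ι} {s : ι → ZMod 2} {τ : κ → κ} {r : κ → ZMod 2} (e : κ ≃ Bool ⊕ ι)
    (hτ : ∀ i, e (τ i) = Sum.map Bool.not σ (e i)) (hr : ∀ i, r i = Sum.elim (fun _ => 0) s (e i))
    {w : ι → ↥(centralizer ({x, y} : Set E))} (hw : IsFamily σ s w) :
    IsFamily τ r (fun i => Sum.elim (fun b : Bool => if b then y else x) (fun j => (w j : E)) (e i)) := by
  have hcx : ∀ j, bit ⁅x, (w j : E)⁆ = 0 ∧ bit ⁅y, (w j : E)⁆ = 0 := fun j =>
    ⟨bit_eq_zero.2 (commutatorElement_eq_one_iff_mul_comm.2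
        (mem_centralizer_iff.mp (w j).2 x (Set.mem_insert _ _))),
      bit_eq_zero.2 (commutatorElement_eq_one_iff_mul_comm.2
        (mem_centralizer_iff.mp (w j).2 y (Set.mem_insert_of_mem _ rfl)))⟩
  have hbit : ∀ c : ↥(centralizer ({x, y} : Set E)), bit (c : E) = bit c := fun c => by
    rcases zmod_two_cases (bit c) with hc | hc <;> rw [hc]
    · exact bit_eq_zero.2 (by rw [bit_eq_zero.1 hc]; rfl)
    · exact bit_eq_one.2 fun e' => bit_eq_one.1 hc (Subtype.ext e')
  have key : ∀ a b : Bool ⊕ ι,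
      bit ⁅Sum.elim (fun b : Bool => if b then y else x) (fun j => (w j : E)) a,
        Sum.elim (fun b : Bool => if b then y else x) (fun j => (w j : E)) b⁆
        = if b = Sum.map Bool.not σ a then 1 else 0 := by
    rintro (a | i) (b | j)
    · rcases a <;> rcases b <;>
        simp [commutatorElement_self, bit_one, bit_eq_one.2 hxy, bit_comm_symm h y x]
    · rcases a <;> simp [(hcx j).1, (hcx j).2]
    · rcases b <;> simp [bit_comm_symm h (w i : E), (hcx i).1, (hcx i).2]
    · have he : ((⁅w i, w j⁆ : ↥(centralizer ({x, y} : Set E))) : E) = ⁅(w i : E), (w j : E)⁆ := rfl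
      simp only [Sum.elim_inr, Sum.map_inr, Sum.inr.injEq]
      rw [← he, hbit, hw.1]
  refine ⟨fun i j => ?_, fun i => ?_⟩
  · rw [key, ← hτ i]
    exact if_congr e.injective.eq_iff rfl rfl
  · have key2 : ∀ a : Bool ⊕ ι,
        bit (Sum.elim (fun b : Bool => if b then y else x) (fun j => (w j : E)) a ^ 2)
          = Sum.elim (fun _ => 0) s a := by
      rintro (b | j)
      · rcases b <;> simp [hx, hy, bit_one]
      · simp only [Sum.elim_inr, ← SubgroupClass.coe_pow, hbit, hw.2]
    rw [hr]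
    exact key2 (e i)

/-- The index bookkeeping of `isFamily_extend` for the plus family. -/
def plusStep (k : ℕ) : Fin (k + 1) ⊕ Fin (k + 1) ≃ Bool ⊕ (Fin k ⊕ Fin k) where
  toFun := Sum.elim (Fin.cases (.inl false) fun i => .inr (.inl i))
    (Fin.cases (.inl true) fun i => .inr (.inr i))
  invFun := Sum.elim (fun b => if b then .inr 0 else .inl 0)
    (Sum.elim (fun i => .inl i.succ) fun i => .inr i.succ)
  left_inv := by
    rintro (i | i) <;> cases i using Fin.cases <;> simp
  right_inv := by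
    rintro ((_ | _) | (i | i)) <;> simp

theorem exists_family [Fact (Nat.Prime 2)] : ∀ (k : ℕ) (E : Type u) [Group E] [Finite E],
    Nat.card E = 2 ^ (2 * (k + 1) + 1) → ExtraLike 2 E →
    (∃ w : Fin (k + 1) ⊕ Fin (k + 1) → E, IsFamily Sum.swap (fun _ => 0) w) ∨
      ∃ w : (Fin k ⊕ Fin k) ⊕ Fin 2 → E, IsFamily minusSwap minusSq w := by
  intro k
  induction k with
  | zero =>
    intro E _ _ hc h
    obtain ⟨x, y, hxy, hd⟩ := exists_pair_of_card_eight h (hc.trans (by norm_num))
    have h1 : bit ⁅x, y⁆ = 1 := bit_eq_one.2 hxy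
    have h2 : bit ⁅y, x⁆ = 1 := by rw [bit_comm_symm h]; exact h1
    rcases hd with ⟨-, hx, hy⟩ | ⟨-, hx, hy⟩
    · refine Or.inl ⟨Sum.elim (fun _ => x) fun _ => y, ?_, ?_⟩
      · rintro (i | i) (j | j) <;> fin_cases i <;> fin_cases j <;>
          simp [commutatorElement_self, bit_one, h1, h2]
      · rintro (i | i) <;> simp [hx, hy, bit_one]
    · refine Or.inr ⟨Sum.elim (Sum.elim Fin.elim0 Fin.elim0) ![x, y], ?_, ?_⟩
      · rintro ((i | i) | i) ((j | j) | j) <;>
          first
            | exact i.elim0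
            | exact j.elim0
            | skip
        fin_cases i <;> fin_cases j <;> simp [minusSwap, commutatorElement_self, bit_one, h1, h2, Fin.rev]
      · rintro ((i | i) | i)
        · exact i.elim0
        · exact i.elim0
        · fin_cases i <;> simp [minusSq, bit_eq_one.2 hx, bit_eq_one.2 hy]
  | succ k ih =>
    intro E _ _ hc h
    have big : 8 < Nat.card E := by
      rw [hc]; exact Nat.pow_lt_pow_right (a := 2) (by norm_num) (by omega : 3 < 2 * (k + 1 + 1) + 1)
    obtain ⟨x, y, hxy, hx, hy⟩ := exists_pair_involutions h (hasInvolution_of_card h big)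
    have hsub : Nat.card ↥(centralizer ({x, y} : Set E)) = 2 ^ (2 * (k + 1) + 1) := by
      have e1 := card_eq_mul h hxy
      rw [hc, show 2 * (k + 1 + 1) + 1 = 2 + (2 * (k + 1) + 1) by ring, pow_add] at e1
      exact (Nat.eq_of_mul_eq_mul_left (by norm_num) e1).symm
    rcases ih _ hsub (extraLike_centralizer h hxy) with ⟨w, hw⟩ | ⟨w, hw⟩
    · refine Or.inl ⟨_, isFamily_extend h hxy hx hy (plusStep (k + 1)) ?_ ?_ hw⟩
      · rintro (i | i) <;> cases i using Fin.cases <;> simp [plusStep]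
      · rintro (i | i) <;> cases i using Fin.cases <;> simp [plusStep]
    · let e : (Fin (k + 1) ⊕ Fin (k + 1)) ⊕ Fin 2 ≃ Bool ⊕ ((Fin k ⊕ Fin k) ⊕ Fin 2) :=
        ((plusStep k).sumCongr (Equiv.refl (Fin 2))).trans (Equiv.sumAssoc _ _ _)
      refine Or.inr ⟨_, isFamily_extend h hxy hx hy e ?_ ?_ hw⟩
      · rintro ((i | i) | i)
        · cases i using Fin.cases <;> simp [e, plusStep, minusSwap]
        · cases i using Fin.cases <;> simp [e, plusStep, minusSwap]
        · simp [e, minusSwap]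
      · rintro ((i | i) | i)
        · cases i using Fin.cases <;> simp [e, plusStep, minusSq]
        · cases i using Fin.cases <;> simp [e, plusStep, minusSq]
        · simp [e, minusSq]

/-- Coordinates with the commutator pairing, from a family. -/
theorem exists_coord_polar {E : Type u} [Group E] [Finite E] [Fact (Nat.Prime 2)] (h : ExtraLike 2 E)
    {ι : Type} [Fintype ι] [DecidableEq ι] (hcard : Nat.card E = 2 * 2 ^ Fintype.card ι)
    {σ : ι → ι} (hσ : Function.Involutive σ) {s : ι → ZMod 2} {w : ι → E} (hw : IsFamily σ s w)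
    (Q : (ι → ZMod 2) → ZMod 2) (hQ : ∀ u v, Q (u + v) = Q u + Q v + ∑ i, u i * v (σ i))
    (hs : ∀ i, Q (Pi.single i 1) = s i) :
    ∃ π : E →* Multiplicative (ι → ZMod 2), Function.Surjective π ∧ π.ker = center E ∧
      (∀ g, bit (g ^ 2) = Q (Multiplicative.toAdd (π g))) ∧
      ∀ a b, bit ⁅a, b⁆
        = QuadraticMap.polar Q (Multiplicative.toAdd (π a)) (Multiplicative.toAdd (π b)) := by
  obtain ⟨π, hsurj, hker, hq⟩ := exists_coord h hcard σ hσ Q hQ w hw.1 fun i => by rw [hw.2, hs]
  have hsq : ∀ g, bit (g ^ 2) = Q (Multiplicative.toAdd (π g)) := fun g => by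
    rcases zmod_two_cases (Q (Multiplicative.toAdd (π g))) with e | e <;> rw [e]
    · exact bit_eq_zero.2 ((hq g).2 e)
    · exact bit_eq_one.2 fun hg => one_ne_zero (e.symm.trans ((hq g).1 hg))
  refine ⟨π, hsurj, hker, hsq, fun a b => ?_⟩
  have := bit_sq_mul h a b
  rw [hsq, hsq, hsq, map_mul, toAdd_mul] at this
  rw [QuadraticMap.polar, this]
  ring

end Cfsg.Agent.Lib.CoType29
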