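import Mathlib
import Cfsg.Agent.Lib.CoType29.Coord
import Cfsg.Agent.Lib.Forms.Bridge

/-!
# The action of the normalizer of a self-centralizing extraspecial 2-subgroup on its coordinates
(written by helper29)
-/

set_option autoImplicit false

namespace Cfsg.Agent.Lib.CoType29

open Subgroup Cfsg.Agent.Lib.ExtraStruct Cfsg.Agent.Lib.ExtraTwoCoord
open scoped commutatorElement

variable {C : Type*} [Group C] [Finite C] {N : Subgroup C} [hN : N.Normal]
  {ι : Type} [Fintype ι] [DecidableEq ι]

/-- Quadratic coordinates of `N`. -/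
structure CoordData (N : Subgroup C) (Q₀ : (ι → ZMod 2) → ZMod 2) where
  π : ↥N →* Multiplicative (ι → ZMod 2)
  surj : Function.Surjective π
  ker : π.ker = center ↥N
  sq : ∀ g, bit (g ^ 2) = Q₀ (Multiplicative.toAdd (π g))
  comm : ∀ a b, bit ⁅a, b⁆
    = QuadraticMap.polar Q₀ (Multiplicative.toAdd (π a)) (Multiplicative.toAdd (π b))

variable {Q₀ : (ι → ZMod 2) → ZMod 2} (D : CoordData N Q₀)

/-- The coordinates, additively. -/
def CoordData.co (a : ↥N) : ι → ZMod 2 := Multiplicative.toAdd (D.π a)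

theorem CoordData.co_mul (a b : ↥N) : D.co (a * b) = D.co a + D.co b := by
  simp only [CoordData.co, map_mul, toAdd_mul]

/-- A representative with given coordinates. -/
noncomputable def CoordData.rep (v : ι → ZMod 2) : ↥N := Classical.choose (D.surj (Multiplicative.ofAdd v))

theorem CoordData.co_rep (v : ι → ZMod 2) : D.co (D.rep v) = v := by
  have := Classical.choose_spec (D.surj (Multiplicative.ofAdd v))
  simp only [CoordData.co, CoordData.rep, this, toAdd_ofAdd]

theorem CoordData.co_eq_zero (a : ↥N) : D.co a = 0 ↔ a ∈ center ↥N := by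
  rw [← D.ker, MonoidHom.mem_ker]
  exact ⟨fun h => Multiplicative.toAdd.injective h, fun h => by simp [CoordData.co, h]⟩

/-- Conjugation on the coordinates. -/
noncomputable def CoordData.act (c : C) (v : ι → ZMod 2) : ι → ZMod 2 :=
  D.co (MulAut.conjNormal c (D.rep v))

theorem CoordData.co_conj (c : C) (a : ↥N) : D.co (MulAut.conjNormal c a) = D.act c (D.co a) := by
  set r := D.rep (D.co a)
  have h1 : r⁻¹ * a ∈ center ↥N := by
    rw [← D.ker, MonoidHom.mem_ker, map_mul, map_inv]
    have : D.π r = D.π a := Multiplicative.toAdd.injective (D.co_rep (D.co a))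
    rw [this, inv_mul_cancel]
  have h2 : MulAut.conjNormal c (r⁻¹ * a) ∈ center ↥N :=
    mem_center_iff.2 fun x => by
      obtain ⟨y, rfl⟩ := (MulAut.conjNormal c : MulAut ↥N).surjective x
      rw [← map_mul, ← map_mul, mem_center_iff.1 h1 y]
  have h3 := (D.co_eq_zero _).2 h2
  have h4 : MulAut.conjNormal c a = MulAut.conjNormal c r * MulAut.conjNormal c (r⁻¹ * a) := by
    rw [← map_mul, mul_inv_cancel_left]
  rw [h4, D.co_mul, h3, add_zero]
  rfl

theorem CoordData.act_add (c : C) (u v : ι → ZMod 2) : D.act c (u + v) = D.act c u + D.act c v := by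
  have : u + v = D.co (D.rep u * D.rep v) := by rw [D.co_mul, D.co_rep, D.co_rep]
  rw [this, ← D.co_conj, map_mul, D.co_mul]
  rfl

theorem CoordData.act_one (v : ι → ZMod 2) : D.act 1 v = v := by
  simp [CoordData.act, D.co_rep]

theorem CoordData.act_mul (c d : C) (v : ι → ZMod 2) : D.act (c * d) v = D.act c (D.act d v) := by
  conv_lhs => rw [← D.co_rep v, ← D.co_conj, map_mul, MulAut.mul_apply, D.co_conj]
  rfl

/-- Conjugation as a linear equivalence of the coordinates. -/
noncomputable def CoordData.actEquiv (c : C) : (ι → ZMod 2) ≃ₗ[ZMod 2] (ι → ZMod 2) where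
  toFun := D.act c
  invFun := D.act c⁻¹
  left_inv v := by rw [← D.act_mul, inv_mul_cancel, D.act_one]
  right_inv v := by rw [← D.act_mul, mul_inv_cancel, D.act_one]
  map_add' := D.act_add c
  map_smul' t v := by
    have h0 : D.act c 0 = 0 := add_eq_left.mp ((D.act_add c 0 0).symm.trans (by rw [add_zero]))
    rcases zmod_two_cases t with rfl | rfl <;> simp [h0]

theorem bit_map (α : MulAut ↥N) (a : ↥N) : bit (α a) = bit a := by
  rcases zmod_two_cases (bit a) with h | h <;> rw [h]
  · exact bit_eq_zero.2 (by rw [bit_eq_zero.1 h, map_one])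
  · exact bit_eq_one.2 fun e => bit_eq_one.1 h (by simpa using e)

theorem CoordData.act_iso (c : C) (v : ι → ZMod 2) : Q₀ (D.act c v) = Q₀ v := by
  have h := D.sq (MulAut.conjNormal c (D.rep v))
  rw [← map_pow, bit_map, D.sq, show Multiplicative.toAdd (D.π (D.rep v)) = v from D.co_rep v] at h
  exact h.symm

/-- Conjugation as a map into the isometry group. -/
noncomputable def CoordData.actHom : C →* Cfsg.isometryGroup (ZMod 2) Q₀ where
  toFun c := Forms.isoMk (D.actEquiv c) (show ∀ v, Q₀ (D.actEquiv c v) = Q₀ v from D.act_iso c)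
  map_one' := by
    refine Forms.isoToEquiv_injective _ (LinearEquiv.ext fun v => ?_)
    rw [map_one, Forms.isoToEquiv_apply, Forms.isoMk_mulVec]
    exact D.act_one v
  map_mul' c d := by
    refine Forms.isoToEquiv_injective _ (LinearEquiv.ext fun v => ?_)
    rw [map_mul, LinearEquiv.mul_apply, Forms.isoToEquiv_apply, Forms.isoToEquiv_apply,
      Forms.isoToEquiv_apply, Forms.isoMk_mulVec, Forms.isoMk_mulVec, Forms.isoMk_mulVec]
    exact D.act_mul c d v

theorem CoordData.actHom_mulVec (c : C) (v : ι → ZMod 2) :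
    Matrix.mulVec ((D.actHom c : GL ι (ZMod 2)) : Matrix ι ι (ZMod 2)) v = D.act c v :=
  Forms.isoMk_mulVec (D.actEquiv c) (show ∀ w, Q₀ (D.actEquiv c w) = Q₀ w from D.act_iso c) v

theorem CoordData.actHom_eq_one_iff {c : C} : D.actHom c = 1 ↔ ∀ v, D.act c v = v := by
  constructor
  · intro h v
    rw [← D.actHom_mulVec, h]
    simp
  · intro h
    refine Forms.isoToEquiv_injective _ ?_
    rw [map_one]
    exact LinearEquiv.ext fun v => by
      rw [Forms.isoToEquiv_apply, D.actHom_mulVec, h]; rfl

theorem CoordData.act_of_mem {c : C} (hc : c ∈ N) (v : ι → ZMod 2) : D.act c v = v := by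
  have h1 : MulAut.conjNormal c (D.rep v) = (⟨c, hc⟩ : ↥N) * D.rep v * (⟨c, hc⟩ : ↥N)⁻¹ :=
    Subtype.ext rfl
  rw [CoordData.act, h1, D.co_mul, D.co_mul, D.co_rep, CoordData.co, CoordData.co, map_inv, toAdd_inv]
  exact funext fun i => by simp only [Pi.add_apply, Pi.neg_apply]; ring

/-- An element acting trivially on the coordinates lies in `N`, when `N` contains its centralizer. -/
theorem CoordData.mem_of_act_trivial [Fact (Nat.Prime 2)] (h : ExtraLike 2 ↥N)
    (hcent : centralizer (N : Set C) ≤ N) {σ : ι → ι} (hσ : Function.Involutive σ)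
    (hQ : ∀ u v, QuadraticMap.polar Q₀ u v = ∑ i, u i * v (σ i))
    {c : C} (hc : ∀ v, D.act c v = v) : c ∈ N := by
  let f : ι → ZMod 2 := fun i =>
    bit (MulAut.conjNormal c (D.rep (Pi.single i 1)) * (D.rep (Pi.single i 1))⁻¹)
  set q := D.rep (f ∘ σ)
  have hq : ∀ i, bit ⁅q, D.rep (Pi.single i 1)⁆ = f i := fun i => by
    rw [D.comm]
    show QuadraticMap.polar Q₀ (D.co q) (D.co _) = f i
    rw [D.co_rep, D.co_rep, hQ, Finset.sum_eq_single (σ i)]
    · simp [hσ i]
    · intro j _ hj
      rw [Pi.single_eq_of_ne (fun e => hj (by rw [← e, hσ j])), mul_zero]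
    · simp
  have hfix : ∀ i, MulAut.conjNormal c (D.rep (Pi.single i 1))
      = MulAut.conjNormal (q : C) (D.rep (Pi.single i 1)) := fun i => by
    set w := D.rep (Pi.single i 1)
    have h1 : MulAut.conjNormal c w * w⁻¹ ∈ center ↥N := by
      rw [← D.co_eq_zero, D.co_mul, D.co_conj, hc, ← D.co_mul, mul_inv_cancel]
      exact (D.co_eq_zero _).2 (one_mem _)
    have h2 : MulAut.conjNormal (q : C) w * w⁻¹ = ⁅q, w⁆ := by
      rw [commutatorElement_def]
      exact Subtype.ext rfl
    have h3 : bit (MulAut.conjNormal (q : C) w * w⁻¹) = f i := by rw [h2]; exact hq i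
    refine mul_right_cancel (b := w⁻¹) ?_
    rcases zmod_two_cases (f i) with e | e
    · exact (bit_eq_zero.1 (show bit _ = 0 from e)).trans (bit_eq_zero.1 (h3.trans e)).symm
    · exact eq_of_mem_center_two h h1 (bit_eq_one.1 e) (by rw [h2]; exact h.comm_mem _ _)
        (bit_eq_one.1 (h3.trans e))
  let H : Subgroup ↥N :=
    { carrier := {a | MulAut.conjNormal c a = MulAut.conjNormal (q : C) a}
      one_mem' := by simp
      mul_mem' := fun {a b} ha hb => by
        simp only [Set.mem_setOf_eq, map_mul] at *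
        rw [ha, hb]
      inv_mem' := fun {a} ha => by
        simp only [Set.mem_setOf_eq, map_inv] at *
        rw [ha] }
  have hcen : center ↥N ≤ H := fun a ha => by
    have hfixed : ∀ α : MulAut ↥N, α a = a := fun α => by
      have hm : α a ∈ center ↥N := mem_center_iff.2 fun x => by
        obtain ⟨y, rfl⟩ := α.surjective x
        rw [← map_mul, ← map_mul, mem_center_iff.1 ha y]
      by_cases h1 : a = 1
      · rw [h1, map_one]
      · exact eq_of_mem_center_two h hm (fun e => h1 (by simpa using e)) ha h1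
    show MulAut.conjNormal c a = MulAut.conjNormal (q : C) a
    rw [hfixed, hfixed]
  have htop : H = ⊤ := eq_top_of_singles (π := D.π) (D.ker.le.trans hcen) fun i =>
    ⟨D.rep (Pi.single i 1), hfix i, Multiplicative.toAdd.injective (D.co_rep _)⟩
  have hmem : (q : C)⁻¹ * c ∈ centralizer (N : Set C) := mem_centralizer_iff.2 fun a ha => by
    have hm : (⟨a, ha⟩ : ↥N) ∈ H := by rw [htop]; exact mem_top _
    have e := congrArg Subtype.val (show MulAut.conjNormal c (⟨a, ha⟩ : ↥N)
      = MulAut.conjNormal (q : C) ⟨a, ha⟩ from hm)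
    simp only [MulAut.conjNormal_apply] at e
    calc a * ((q : C)⁻¹ * c) = (q : C)⁻¹ * ((q : C) * a * (q : C)⁻¹) * c := by group
      _ = (q : C)⁻¹ * (c * a * c⁻¹) * c := by rw [e]
      _ = (q : C)⁻¹ * c * a := by group
  simpa using mul_mem q.2 (hcent hmem)

/-- The kernel of the action. -/
theorem CoordData.ker_actHom [Fact (Nat.Prime 2)] (h : ExtraLike 2 ↥N)
    (hcent : centralizer (N : Set C) ≤ N) {σ : ι → ι} (hσ : Function.Involutive σ)
    (hQ : ∀ u v, QuadraticMap.polar Q₀ u v = ∑ i, u i * v (σ i)) : D.actHom.ker = N := by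
  ext c
  rw [MonoidHom.mem_ker, D.actHom_eq_one_iff]
  exact ⟨fun hc => D.mem_of_act_trivial h hcent hσ hQ hc, fun hc v => D.act_of_mem hc v⟩

end Cfsg.Agent.Lib.CoType29
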