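import Cfsg.Agent.Lib.CoType29.DistinctCount

/-!
# The two types are not conjugate (written by helper29)

For `y` of type `1`, `C(z, s, y)` has index two in `C(z, y)` and the centre of a Sylow
`2`-subgroup of `C(z, y)` contains no conjugate of `z` but `z`; so it is a Sylow `2`-subgroup of
`C(y)`. The stabiliser in `C(z, s)` of an involution of type `0` has a larger `2`-part.
-/

set_option autoImplicit false
set_option synthInstance.maxSize 1024

namespace Cfsg.Agent.Lib.CoType29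

open Co1Type47 LargeExtra

/-- A normal `p`-subgroup lies in every Sylow `p`-subgroup. -/
theorem normal_le_sylow {p : ℕ} [Fact p.Prime] {K : Type*} [Group K] [Finite K] {N : Subgroup K}
    [N.Normal] (hN : IsPGroup p ↥N) (S : Sylow p K) : N ≤ (S : Subgroup K) := by
  obtain ⟨T, hT⟩ := hN.exists_le_sylow
  obtain ⟨g, rfl⟩ := MulAction.exists_smul_eq K T S
  intro n hn
  rw [Sylow.smul_def]
  exact ⟨g⁻¹ * n * g, hT (by simpa using (inferInstance : N.Normal).conj_mem n hn g⁻¹),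
    by simp [mul_assoc]⟩

/-- Parameters commuting with the representative of type `1`. -/
theorem line_facts : ∀ j k j' k' : ZMod 2,
    bW (lineVec 1 j k) (repA 1) + bW (lineVec 1 j' k') (repA 1)
      + bW (repV 1) (lineVec 1 j k) = 0 →
    bW (lineVec 1 j' k') (repV 1) + bW (lineVec 1 j' k') (repA 1)
      + bW (repV 1) (lineVec 1 j k) = 0 →
    (lineVec 1 j k = 0 ∧ lineVec 1 j' k' = 0) ∨
      PairOK 1 (lineVec 1 j k, lineVec 1 j' k') := by decide +kernel

variable {G : Type*} [Group G] [Finite G] {z s : G} {Qf : G → Subgroup G}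
  {P : Co1Type47.Pair z s Qf}

/-- Some element of `C(z, y)` exchanges `s` and `s z`. -/
theorem exists_swap {y b q : G} (hp : P.Parts 1 y b q) :
    ∃ h : G, h * z = z * h ∧ h * y = y * h ∧ h * s * h⁻¹ = s * z := by
  obtain ⟨m, hm, hmf⟩ := P.D.phi_surj f₀
  have hmz := P.gz.le_cent m hm
  have hms : m * s * m⁻¹ = s * z := by
    rw [P.D.conj_eq P.gz P.s_mem hm, hmf, P.phi_s]; rfl
  set d := b * m * b⁻¹ * m⁻¹ with hd
  have hdm : d ∈ Qf z := mul_mem (P.gz.norm b hp.hbz m hm) (inv_mem hm)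
  have hdphi : P.D.phi d = (qW (P.alpha b), 0, P.alpha b) := by
    rw [hd, P.D.phi_mul _ (P.gz.norm b hp.hbz m hm) _ (inv_mem hm), P.D.act_phi b hp.hbz m hm,
      P.D.phi_inv P.gz hm, P.act_eq hp.hb hp.hbz, hmf]
    simp [siegel, f₀, bW, bH, (by decide : (1 : ZMod 2) + 1 = 0)]
  have hbi : b⁻¹ * z = z * b⁻¹ := (Commute.inv_left hp.hbz :)
  have he : b⁻¹ * d⁻¹ * b ∈ Qf z := by simpa using P.gz.norm b⁻¹ hbi _ (inv_mem hdm)
  have hephi : P.D.phi (b⁻¹ * d⁻¹ * b) = (qW (P.alpha b), 0, P.alpha b) := by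
    have h := P.D.act_phi b⁻¹ hbi _ (inv_mem hdm)
    rw [inv_inv] at h
    rw [h, P.act_eq (inv_mem hp.hb) hbi, P.alpha_inv hp.hb hp.hbz, P.D.phi_inv P.gz hdm, hdphi]
    simp [siegel, bW_self]
  set k := bV (P.D.phi m) (P.D.phi q)
  set q' := b⁻¹ * d⁻¹ * b * q * bpow z k
  have hzk : bpow z k ∈ Qf z := by
    rcases bpow_cases z k with e | e <;> rw [e]
    exacts [one_mem _, P.gz.x_mem]
  have hq' : q' ∈ Qf z := mul_mem (mul_mem he hp.hq) hzk
  have hqphi : P.D.phi q' = P.D.phi (b⁻¹ * d⁻¹ * b) + P.D.phi q := by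
    rw [P.D.phi_mul _ (mul_mem he hp.hq) _ hzk, P.D.phi_mul _ he _ hp.hq]
    rcases bpow_cases z k with e | e <;> rw [e]
    · rw [P.D.phi_one P.gz, add_zero]
    · rw [P.D.phi_z P.gz, add_zero]
  have hw : P.wPart q' = P.alpha b + P.wPart q := by
    show (P.D.phi q').2.2 = _
    rw [hqphi, hephi]; rfl
  have hy' : P.Typed 1 (m * y * m⁻¹) := by
    refine ⟨b, q', hp.hb, hp.hbz, hq', (P.commute_s hq').2 ?_, ?_, hp.a_ne, ?_, ?_, hp.qa, ?_, ?_⟩
    · rw [hqphi, hephi]; simp [(P.commute_s hp.hq).1 hp.hqs]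
    · have h1 : m * q * m⁻¹ = q * bpow z k := P.D.conj_eq P.gz hp.hq hm
      have h2 : m * b * m⁻¹ = d⁻¹ * b := by rw [hd]; group
      calc m * y * m⁻¹ = (m * b * m⁻¹) * (m * q * m⁻¹) := by rw [hp.eq]; group
        _ = b * q' := by rw [h1, h2]; simp [q', mul_assoc]
    · rw [hw]; exact fun e => hp.ne (w6_eq_of_add e)
    · rw [hw]; exact fun e => hp.v_ne (left_eq_add.1 e)
    · rw [hw, qW_add, hp.qa, hp.qv, hp.av]; decide
    · rw [hw, bW_add_right, bW_self, zero_add, hp.av]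
  obtain ⟨c, hcz, hcs, hc⟩ := P.typed_conj hy' ⟨b, q, hp⟩
  refine ⟨c * m, ((Commute.mul_left hcz hmz) :), conj_eq_iff_comm.1 ?_, ?_⟩
  · calc c * m * y * (c * m)⁻¹ = c * (m * y * m⁻¹) * c⁻¹ := by group
      _ = y := hc
  · calc c * m * s * (c * m)⁻¹ = c * (m * s * m⁻¹) * c⁻¹ := by group
      _ = (c * s * c⁻¹) * (c * z * c⁻¹) := by rw [hms]; group
      _ = s * z := by rw [conj_eq_iff_comm.2 hcs, conj_eq_iff_comm.2 hcz]

omit [Finite G] in
/-- `C(z, y)` fixes the point `e₀`. -/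
theorem conj_s_cases {y b q : G} (hp : P.Parts 1 y b q) (ha : P.alpha b = repA 1) {c : G}
    (hcz : c * z = z * c) (hcy : c * y = y * c) : c * s * c⁻¹ = s ∨ c * s * c⁻¹ = s * z := by
  have hact : ∀ v, siegel (repA 1) (P.D.act c v) = P.D.act c (siegel (repA 1) v) := fun v => by
    rw [← ha, ← Rep.act_eq hp, ← Rep.act_eq hp, ← P.D.act_mul P.gz (Rep.comm_z hp) hcz,
      ← P.D.act_mul P.gz hcz (Rep.comm_z hp), hcy]
  have hadd := P.D.act_add hcz fun a ha => P.gz.norm c hcz a ha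
  have hy : siegel (repA 1) (emb (yA 1)) + emb (yA 1) = e₀ := by decide
  set u := P.D.act c (emb (yA 1))
  have h1 : siegel (repA 1) u + u = P.D.act c e₀ := by rw [hact, ← hadd, hy]
  have h2 := P.D.act_iso c hcz e₀
  rw [← h1, qV_e₀] at h2
  have key : ∀ v : V8, qV (siegel (repA 1) v + v) = 0 →
      siegel (repA 1) v + v = 0 ∨ siegel (repA 1) v + v = e₀ := by decide +kernel
  rcases key u h2 with e | e
  · exfalso
    have h3 := congrArg (P.D.act c⁻¹) (h1.symm.trans e)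
    rw [P.D.act_inv_act P.gz hcz, P.D.act_zero P.gz (Commute.inv_left hcz :)] at h3
    exact e₀_ne h3
  · have h3 : P.D.phi (c * s * c⁻¹) = P.D.phi s := by
      rw [P.D.act_phi c hcz s P.s_mem, P.phi_s, ← h1, e]
    exact P.D.eq_or_of_phi_eq P.gz (P.gz.norm c hcz s P.s_mem) P.s_mem h3

/-- The order of `C(z, y)`. -/
theorem card_cent_two {y b q : G} (hp : P.Parts 1 y b q) (ha : P.alpha b = repA 1) :
    Nat.card ↥(Subgroup.centralizer ({z} : Set G) ⊓ Subgroup.centralizer ({y} : Set G) :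
      Subgroup G) = 2 * Nat.card ↥(cZSX P y) := by
  classical
  obtain ⟨h, hhz, hhy, hhs⟩ := exists_swap hp
  have hmem : ∀ c : ↥(Subgroup.centralizer ({z} : Set G) ⊓ Subgroup.centralizer ({y} : Set G) :
      Subgroup G), (c : G) * z = z * c ∧ (c : G) * y = y * c := fun c =>
    ⟨Subgroup.mem_centralizer_singleton_iff.1 c.2.1, Subgroup.mem_centralizer_singleton_iff.1 c.2.2⟩
  have hne : ∀ k : ↥(cZSX P y), h * (k : G) * s ≠ s * (h * k) := fun k e => by
    obtain ⟨-, -, hks⟩ := (mem_cZSX P).1 k.2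
    have h1 : s * z = s := by
      calc s * z = h * s * h⁻¹ := hhs.symm
        _ = h * (k * s * (k : G)⁻¹) * h⁻¹ := by rw [conj_eq_iff_comm.2 hks]
        _ = (h * k) * s * (h * k)⁻¹ := by group
        _ = s := conj_eq_iff_comm.2 e
    exact P.gz.x_ne (mul_eq_left.1 h1)
  rw [two_mul, ← Nat.card_sum]
  refine Nat.card_congr {
    toFun := fun c => if hs : (c : G) * s = s * c then
        .inl ⟨c, (mem_cZSX P).2 ⟨(hmem c).1, (hmem c).2, hs⟩⟩
      else .inr ⟨h⁻¹ * c, (mem_cZSX P).2 ⟨(Commute.mul_left (Commute.inv_left hhz) (hmem c).1 :),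
        (Commute.mul_left (Commute.inv_left hhy) (hmem c).2 :), conj_eq_iff_comm.1 ?_⟩⟩
    invFun := Sum.elim
      (fun k => ⟨k, Subgroup.mem_centralizer_singleton_iff.2 ((mem_cZSX P).1 k.2).1,
        Subgroup.mem_centralizer_singleton_iff.2 ((mem_cZSX P).1 k.2).2.1⟩)
      (fun k => ⟨h * k,
        Subgroup.mem_centralizer_singleton_iff.2 (Commute.mul_left hhz ((mem_cZSX P).1 k.2).1 :),
        Subgroup.mem_centralizer_singleton_iff.2 (Commute.mul_left hhy ((mem_cZSX P).1 k.2).2.1 :)⟩)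
    left_inv := ?_
    right_inv := ?_ }
  · have e := (conj_s_cases hp ha (hmem c).1 (hmem c).2).resolve_left
      fun e => hs (conj_eq_iff_comm.1 e)
    calc h⁻¹ * c * s * (h⁻¹ * c)⁻¹ = h⁻¹ * (c * s * (c : G)⁻¹) * h := by group
      _ = s := by rw [e, ← hhs]; group
  · intro c
    by_cases hs : (c : G) * s = s * c <;> simp [hs]
  · rintro (k | k)
    · simp [((mem_cZSX P).1 k.2).2.2]
    · simp [hne k]

/-- A conjugate of `z` centralising a Sylow `2`-subgroup of `C(z, y)` is `z`. -/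
theorem eq_centre (H : Co1Type47.Hyp z Qf) {y b q : G} (hp : P.Parts 1 y b q)
    (ha : P.alpha b = repA 1) (hv : P.wPart q = repV 1) {w : G} (hw : IsConj z w)
    (hwm : ∀ m ∈ Qf z, m * y = y * m → w * m = m * w) (hwy : w * y = y * w) {h : G}
    (hhs : h * s * h⁻¹ = s * z) (hhz : h * z = z * h) (hwh : h * w = w * h) : w = z := by
  obtain ⟨g, hg⟩ := isConj_iff.1 hw
  have hww : w * w = 1 := by
    rw [← hg]
    calc g * z * g⁻¹ * (g * z * g⁻¹) = g * (z * z) * g⁻¹ := by group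
      _ = 1 := by rw [P.zz]; group
  have hw1 : w ≠ 1 := fun e => P.gz.x_ne (conj_eq_one_iff.1 (hg.trans e))
  have hwz : w * z = z * w := hwm z P.gz.x_mem (Rep.comm_z hp).symm
  have hR : ∀ {m : G}, m ∈ Qf z → InU 1 (P.D.phi m) → w * m = m * w := fun hm hu =>
    hwm _ hm (Rep.commute_inU hp ha hv hm hu).symm
  have hws : w * s = s * w := hR P.s_mem (by rw [P.phi_s]; decide)
  have hfix : FixU 1 (P.D.act w) :=
    ⟨P.D.act_add hwz (fun a ha => P.gz.norm w hwz a ha), P.D.act_iso w hwz, fun u hu => by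
      obtain ⟨m, hm, rfl⟩ := P.D.phi_surj u
      rw [← P.D.act_phi w hwz m hm, conj_eq_iff_comm.2 (hR hm hu)]⟩
  rcases fixU_invol rfl hfix (fun v => by
      rw [← P.D.act_mul P.gz hwz hwz, hww, P.D.act_one P.gz]) with ⟨j, k, hjk⟩ | ⟨m, a, hm, hma⟩
  swap
  · exfalso
    refine P.D.act_ne_refl (w * P.lift a) ((Commute.mul_left hwz (P.lift_comm a)) :) m hm fun v => ?_
    rw [P.D.act_mul P.gz hwz (P.lift_comm a), P.act_eq (P.lift_mem a) (P.lift_comm a),
      P.alpha_lift, hma]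
  obtain ⟨b', q', hb', hbz', hq', hqs', hwe⟩ := P.exists_parts hwz hws hjk
  have hal : P.alpha b' = lineVec 1 j k := by
    have h1 := hjk f₀
    rw [hwe, P.D.act_mul P.gz hbz' (P.gz.le_cent q' hq'), P.D.act_of_mem P.gz hq',
      P.act_eq hb' hbz'] at h1
    simpa [siegel, f₀] using congrArg (fun v : V8 => v.2.2) h1
  obtain ⟨p, hq2⟩ : ∃ p, P.D.phi q' = dVec 1 p := by
    refine perp_inU 1 _ fun u hu => ?_
    have hu' := uGen_inU 1 u hu
    obtain ⟨m, hm, rfl⟩ := P.D.phi_surj u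
    have hms : m * s = s * m := (P.commute_s hm).2 hu'.1
    have hbm : b' * m * b'⁻¹ = m := by
      rw [P.comm_BQ hb' hbz' hm hms, hal, show P.wPart m = (P.D.phi m).2.2 from rfl, lineVec,
        bW_add_right]
      have h0 : bW (P.D.phi m).2.2 0 = 0 := by simp [bW, bH]
      rcases zmod_cases j with rfl | rfl <;> rcases zmod_cases k with rfl | rfl <;>
        simp only [zero_smul, one_smul, hu'.2.1, hu'.2.2, h0, add_zero, bpow_zero, mul_one]
    have h1 := conj_eq_iff_comm.2 (hR hm hu')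
    rw [hwe, show b' * q' * m * (b' * q')⁻¹ = b' * (q' * m * q'⁻¹) * b'⁻¹ by group,
      P.D.conj_eq P.gz hm hq'] at h1
    rw [show b' * (m * bpow z (bV (P.D.phi q') (P.D.phi m))) * b'⁻¹ =
        b' * m * b'⁻¹ * (b' * bpow z (bV (P.D.phi q') (P.D.phi m)) * b'⁻¹) by group, hbm] at h1
    rcases zmod_cases (bV (P.D.phi q') (P.D.phi m)) with r | r
    · exact r
    · rw [r, bpow_one, conj_eq_iff_comm.2 hbz'] at h1
      exact absurd (mul_eq_left.1 h1) P.gz.x_ne
  have hal' : P.wPart q' = lineVec 1 p.2.1 p.2.2 := congrArg (fun v : V8 => v.2.2) hq2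
  -- the conjugate of `y`
  let E : ZMod 2 → ZMod 2 → G := fun i l => bpow s i * bpow z l
  have hE : ∀ i l i' l', E i l * E i' l' = E (i + i') (l + l') := fun i l i' l' => by
    show bpow s i * bpow z l * (bpow s i' * bpow z l') = bpow s (i + i') * bpow z (l + l')
    rw [← bpow_mul P.ss, ← bpow_mul P.zz]
    rw [mul_assoc, mul_assoc, ← mul_assoc (bpow z l), ← P.bpow_comm i', mul_assoc]
  have hEc : ∀ {c : G}, c * z = z * c → c * s = s * c → ∀ i l, c * E i l = E i l * c :=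
    fun hc hc' i l => (P.commute_bpow hc hc' i l).eq
  have hsz : ∀ i, bpow (s * z) i = E i i := P.bpow_sz
  have hs0 : ∀ i, bpow s i = E i 0 := fun i => (mul_one _).symm
  have hz0 : ∀ l, bpow z l = E 0 l := fun l => (one_mul _).symm
  have hwE : ∀ i l, w * E i l * w⁻¹ = E i l := fun i l =>
    conj_eq_iff_comm.2 (hEc hwz hws i l)
  set k₁ := bW (P.wPart q') (P.alpha b)
  set k₂ := bW (P.wPart q) (P.alpha b')
  set i₁ := bW (P.alpha b') (P.alpha b)
  set l₁ := bV (P.D.phi q') (P.D.phi q)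
  have hl₁ : l₁ = bW (P.wPart q') (P.wPart q) := by
    simp [l₁, bV, Pair.wPart, (P.commute_s hp.hq).1 hp.hqs, (P.commute_s hq').1 hqs']
  have hq'b : q' * b * q'⁻¹ = b * E k₁ k₁ := by
    have e := P.comm_BQ hp.hb hp.hbz hq' hqs'
    rw [hsz] at e
    have hEE : E k₁ k₁ * E k₁ k₁ = 1 := by
      rw [hE, h2zero, ← hz0, bpow_zero]
    calc q' * b * q'⁻¹ = (q' * E k₁ k₁) * (E k₁ k₁ * b) * q'⁻¹ := by
          rw [mul_assoc q' (E k₁ k₁), ← mul_assoc (E k₁ k₁), hEE, one_mul]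
      _ = (b * q' * b⁻¹) * (E k₁ k₁ * b) * q'⁻¹ := by rw [e]
      _ = b * q' * (b⁻¹ * (E k₁ k₁ * b)) * q'⁻¹ := by group
      _ = b * (q' * E k₁ k₁ * q'⁻¹) := by
        rw [← hEc hp.hbz (P.gs.le_cent b hp.hb)]; group
      _ = b * E k₁ k₁ := by rw [hEc (P.gz.le_cent q' hq') hqs']; group
  have hwb : w * b * w⁻¹ = b * E (i₁ + k₁) k₁ := by
    calc w * b * w⁻¹ = b' * (q' * b * q'⁻¹) * b'⁻¹ := by rw [hwe]; group
      _ = (b' * b * b'⁻¹) * (b' * E k₁ k₁ * b'⁻¹) := by rw [hq'b]; group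
      _ = b * (E i₁ 0 * E k₁ k₁) := by
        rw [P.conj_B hp.hb hp.hbz hb' hbz', hs0,
          conj_eq_iff_comm.2 (hEc hbz' (P.gs.le_cent b' hb') _ _), mul_assoc]
      _ = _ := by rw [hE, zero_add]
  have hwq : w * q * w⁻¹ = q * E k₂ (k₂ + l₁) := by
    calc w * q * w⁻¹ = b' * (q' * q * q'⁻¹) * b'⁻¹ := by rw [hwe]; group
      _ = (b' * q * b'⁻¹) * (b' * E 0 l₁ * b'⁻¹) := by
        rw [show q' * q * q'⁻¹ = q * E 0 l₁ from (P.D.conj_eq P.gz hp.hq hq').trans
          (congrArg (q * ·) (hz0 l₁))]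
        group
      _ = q * (E k₂ k₂ * E 0 l₁) := by
        rw [P.comm_BQ hb' hbz' hp.hq hp.hqs, hsz,
          conj_eq_iff_comm.2 (hEc hbz' (P.gs.le_cent b' hb') _ _), mul_assoc]
      _ = _ := by rw [hE, add_zero]
  have h1 : b * q = b * q * E (i₁ + k₁ + k₂) (k₁ + (k₂ + l₁)) := by
    conv_lhs => rw [← hp.eq, ← conj_eq_iff_comm.2 hwy, hp.eq]
    calc w * (b * q) * w⁻¹ = (w * b * w⁻¹) * (w * q * w⁻¹) := by group
      _ = b * (E (i₁ + k₁) k₁ * q) * E k₂ (k₂ + l₁) := by rw [hwb, hwq]; group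
      _ = b * q * (E (i₁ + k₁) k₁ * E k₂ (k₂ + l₁)) := by
        rw [← hEc (P.gz.le_cent q hp.hq) hp.hqs]; group
      _ = _ := by rw [hE]
  have h2 := P.bpow_split (i := i₁ + k₁ + k₂) (j := k₁ + (k₂ + l₁)) (i' := 0) (j' := 0) (by
    rw [bpow_zero, bpow_zero, mul_one]; exact left_eq_mul.1 h1)
  rw [hl₁] at h2
  simp only [i₁, k₁, k₂, hal, hal', ha, hv] at h2
  rcases line_facts j k p.2.1 p.2.2 h2.1 (by rw [← h2.2]; ring) with ⟨e1, e2⟩ | hok
  · have hbP := P.mem_of_alpha_eq_zero hb' hbz' (hal.trans e1)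
    have hqP : InP z s q' := (P.inP_iff hq').2 (by
      rw [hq2, dVec, e2]
      rcases zmod_cases p.1 with r | r <;> simp [r, e₀])
    obtain ⟨i, l, e⟩ := P.inP_elim hbP
    obtain ⟨i', l', e'⟩ := P.inP_elim hqP
    have hwE' : w = E (i + i') (l + l') := by rw [hwe, e, e']; exact hE _ _ _ _
    have hhE : h * s * h⁻¹ ≠ s := fun hh => P.gz.x_ne (mul_eq_left.1 (hhs.symm.trans hh))
    rcases zmod_cases (i + i') with r | r
    · rw [r, ← hz0] at hwE'
      exact ((bpow_cases z _).imp hwE'.trans hwE'.trans).resolve_left hw1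
    · exfalso
      apply hhE
      rw [r] at hwE'
      have hh := conj_eq_iff_comm.2 hwh
      rw [hwE', show h * E 1 (l + l') * h⁻¹ =
          (h * s * h⁻¹) * (h * bpow z (l + l') * h⁻¹) by
            show h * (bpow s 1 * bpow z (l + l')) * h⁻¹ = _
            rw [bpow_one]; group] at hh
      have hzl : h * bpow z (l + l') * h⁻¹ = bpow z (l + l') := by
        rcases bpow_cases z (l + l') with t | t <;> rw [t]
        · group
        · exact conj_eq_iff_comm.2 hhz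
      rw [hzl] at hh
      exact mul_right_cancel hh
  · obtain ⟨o1, o2, o3, o4, o5, o6⟩ := hok
    exact absurd hw (not_isConj_typed H P (ε := 1) ⟨b', q', hb', hbz', hq', hqs', hwe,
      hal ▸ o1, hal' ▸ o2, by rw [hal, hal']; exact o3,
      by rw [hal]; exact o4, by rw [hal']; exact o5, by rw [hal, hal']; exact o6⟩)

/-- The `2`-part of `C(y)` is that of `C(z, y)`. -/
theorem two_part_le (H : Co1Type47.Hyp z Qf) {y b q : G} (hp : P.Parts 1 y b q)
    (ha : P.alpha b = repA 1) (hv : P.wPart q = repV 1) (hyy : y * y = 1) :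
    2 ^ (Nat.card ↥(Subgroup.centralizer ({y} : Set G))).factorization 2 ∣
      2 * Nat.card ↥(cZSX P y) := by
  classical
  haveI : Fact (Nat.Prime 2) := ⟨Nat.prime_two⟩
  set K := Subgroup.centralizer ({y} : Set G)
  set CC := Subgroup.centralizer ({z} : Set G) ⊓ Subgroup.centralizer ({y} : Set G) with hCC
  have hcc : ∀ {c : G}, c ∈ CC ↔ c * z = z * c ∧ c * y = y * c := fun {c} => by
    simp only [hCC, Subgroup.mem_inf, Subgroup.mem_centralizer_singleton_iff]
  have hcard := card_cent_two hp ha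
  rw [← hCC] at hcard
  obtain ⟨S⟩ : Nonempty (Sylow 2 ↥CC) := inferInstance
  -- the core part and `y` lie in `S`
  have hR : ∀ m ∈ Qf z, m * y = y * m → ∀ hm : m ∈ CC, (⟨m, hm⟩ : ↥CC) ∈ (S : Subgroup ↥CC) := by
    intro m hm _ hmc
    haveI : ((Qf z).subgroupOf CC).Normal := ⟨fun a ha c => Subgroup.mem_subgroupOf.2
      (P.gz.norm c (hcc.1 c.2).1 a (Subgroup.mem_subgroupOf.1 ha))⟩
    exact normal_le_sylow (N := (Qf z).subgroupOf CC)
      ((H.coreMap.isPGroup z).comap_of_injective _ CC.subtype_injective) S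
      (Subgroup.mem_subgroupOf.2 hm)
  have hyC : y ∈ CC := hcc.2 ⟨Rep.comm_z hp, rfl⟩
  have hyS : (⟨y, hyC⟩ : ↥CC) ∈ (S : Subgroup ↥CC) := by
    haveI : (Subgroup.zpowers (⟨y, hyC⟩ : ↥CC)).Normal := ⟨fun a ha c => by
      obtain ⟨i, rfl⟩ := Subgroup.mem_zpowers_iff.1 ha
      have hcy : Commute c (⟨y, hyC⟩ : ↥CC) := Subtype.ext (hcc.1 c.2).2
      rw [(hcy.zpow_right i).eq, mul_inv_cancel_right]
      exact Subgroup.mem_zpowers_iff.2 ⟨i, rfl⟩⟩
    refine normal_le_sylow ?_ S (Subgroup.mem_zpowers _)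
    intro a
    refine ⟨1, ?_⟩
    obtain ⟨i, hi⟩ := Subgroup.mem_zpowers_iff.1 a.2
    have hy2 : (⟨y, hyC⟩ : ↥CC) ^ 2 = 1 := Subtype.ext (by simpa [pow_two] using hyy)
    refine Subtype.ext ?_
    rw [pow_one, SubgroupClass.coe_pow, ← hi, ← zpow_natCast, ← zpow_mul, mul_comm, zpow_mul,
      zpow_natCast, hy2, one_zpow]
    rfl
  set S' := (S : Subgroup ↥CC).map CC.subtype with hS'
  have hS'card : Nat.card ↥S' = Nat.card ↥(S : Subgroup ↥CC) :=
    (Nat.card_congr (Subgroup.equivMapOfInjective _ _ CC.subtype_injective).toEquiv).symm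
  have hS'le : S' ≤ CC := Subgroup.map_subtype_le _
  have hmemS : ∀ {m : G} (hm : m ∈ CC), (⟨m, hm⟩ : ↥CC) ∈ (S : Subgroup ↥CC) → m ∈ S' :=
    fun hm h => ⟨_, h, rfl⟩
  -- some element of `S` moves `s`
  obtain ⟨h, hhS, hhs⟩ : ∃ h ∈ S', h * s * h⁻¹ = s * z := by
    by_contra hno
    push Not at hno
    have hle : S' ≤ cZSX P y := fun c hc =>
      (mem_cZSX P).2 ⟨(hcc.1 (hS'le hc)).1, (hcc.1 (hS'le hc)).2, conj_eq_iff_comm.1
        ((conj_s_cases hp ha (hcc.1 (hS'le hc)).1 (hcc.1 (hS'le hc)).2).resolve_right (hno c hc))⟩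
    have h1 := Subgroup.card_dvd_of_le hle
    rw [hS'card, S.card_eq_multiplicity, hcard] at h1
    have h2 := (Nat.prime_two.pow_dvd_iff_le_factorization Nat.card_pos.ne').1 h1
    rw [Nat.factorization_mul two_ne_zero Nat.card_pos.ne', Finsupp.add_apply,
      Nat.prime_two.factorization_self] at h2
    omega
  -- the normaliser of `S` in `C(y)` fixes `z`
  have hnorm : ∀ g, g * y = y * g → (∀ a, a ∈ S' ↔ g * a * g⁻¹ ∈ S') → g * z = z * g := by
    intro g hgy hg
    refine conj_eq_iff_comm.1 ?_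
    have hcomm : ∀ a ∈ S', g * z * g⁻¹ * a = a * (g * z * g⁻¹) := by
      intro a ha
      have h1 : g⁻¹ * a * g ∈ S' := (hg _).2 (by simpa [mul_assoc] using ha)
      calc g * z * g⁻¹ * a = g * (z * (g⁻¹ * a * g)) * g⁻¹ := by group
        _ = g * ((g⁻¹ * a * g) * z) * g⁻¹ := by rw [(hcc.1 (hS'le h1)).1]
        _ = _ := by group
    have hmS : ∀ m ∈ Qf z, m * y = y * m → m ∈ S' := fun m hm hmy =>
      hmemS (hcc.2 ⟨P.gz.le_cent m hm, hmy⟩) (hR m hm hmy _)
    exact eq_centre H hp ha hv (isConj_iff.2 ⟨g, rfl⟩) (fun m hm hmy => hcomm m (hmS m hm hmy))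
      (hcomm y (hmemS hyC hyS)) hhs (hcc.1 (hS'le hhS)).1 (hcomm h hhS).symm
  have hKle : CC ≤ K := inf_le_right
  obtain ⟨T, hT⟩ := (((S.isPGroup'.map CC.subtype)).comap_of_injective K.subtype
    K.subtype_injective : IsPGroup 2 ↥(S'.subgroupOf K)).exists_le_sylow
  set T' := (T : Subgroup ↥K).map K.subtype
  have hST : S' ≤ T' := fun c hc =>
    ⟨⟨c, hKle (hS'le hc)⟩, hT (Subgroup.mem_subgroupOf.2 hc), rfl⟩
  have hT'p : IsPGroup 2 ↥T' := T.isPGroup'.map _
  have hTS : T' ≤ S' := by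
    by_contra hne
    haveI : Group.IsNilpotent ↥T' := hT'p.isNilpotent
    have hlt : S'.subgroupOf T' < ⊤ := lt_top_iff_ne_top.2 fun e =>
      hne (Subgroup.subgroupOf_eq_top.1 e)
    obtain ⟨⟨t, htT⟩, htn, htS⟩ := SetLike.exists_of_lt (Group.normalizerCondition_of_isNilpotent _ hlt)
    have hty : t * y = y * t := by
      obtain ⟨t', -, e⟩ := htT
      rw [← e]
      exact Subgroup.mem_centralizer_singleton_iff.1 t'.2
    have htn' : ∀ a, a ∈ S' ↔ t * a * t⁻¹ ∈ S' := by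
      intro a
      constructor
      · exact fun ha => Subgroup.mem_subgroupOf.1
          ((Subgroup.mem_normalizer_iff.1 htn ⟨a, hST ha⟩).1 (Subgroup.mem_subgroupOf.2 ha))
      · intro ha
        have haT : a ∈ T' := by
          have := mul_mem (mul_mem (inv_mem htT) (hST ha)) htT
          simpa [mul_assoc] using this
        exact Subgroup.mem_subgroupOf.1 ((Subgroup.mem_normalizer_iff.1 htn ⟨a, haT⟩).2
          (Subgroup.mem_subgroupOf.2 ha))
    have htC : t ∈ CC := hcc.2 ⟨hnorm t hty htn', hty⟩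
    have hP2 : IsPGroup 2 ↥(T'.subgroupOf CC) := hT'p.comap_of_injective _ CC.subtype_injective
    have hle : (S : Subgroup ↥CC) ≤ T'.subgroupOf CC := fun c hc =>
      Subgroup.mem_subgroupOf.2 (hST (hmemS c.2 hc))
    have heq := S.is_maximal' hP2 hle
    exact htS (Subgroup.mem_subgroupOf.2 (hmemS htC (heq ▸ Subgroup.mem_subgroupOf.2 htT)))
  have h1 : Nat.card ↥T' = Nat.card ↥(T : Subgroup ↥K) :=
    (Nat.card_congr (Subgroup.equivMapOfInjective _ _ K.subtype_injective).toEquiv).symm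
  rw [← hcard, ← T.card_eq_multiplicity, ← h1]
  exact (Subgroup.card_dvd_of_le hTS).trans (Subgroup.card_dvd_of_le hS'le)

/-- The two types are not conjugate. -/
theorem not_isConj_types (H : Co1Type47.Hyp z Qf) (P : Co1Type47.Pair z s Qf) {x y : G}
    (hx : P.Typed 0 x) (hy : P.Typed 1 y) : ¬ IsConj x y := by
  intro hxy
  obtain ⟨c, b, q, hcz, hcs, hp, ha, hv⟩ := P.exists_conj_rep hy
  set y₁ := c * y * c⁻¹
  have hy₁ : P.Typed 1 y₁ := ⟨b, q, hp⟩
  have hyy : y₁ * y₁ = 1 := by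
    rw [hp.eq, P.sq_parts hp.hb hp.hbz hp.hq hp.hqs, bW_comm, hp.qa, hp.qv, hp.av]
    simp [bpow, (by decide : (1 : ZMod 2) + 1 = 0)]
  obtain ⟨g, hg⟩ := isConj_iff.1 (hxy.trans (isConj_iff.2 ⟨c, rfl⟩) : IsConj x y₁)
  have hK : Nat.card ↥(Subgroup.centralizer ({y₁} : Set G)) =
      Nat.card ↥(Subgroup.centralizer ({x} : Set G)) := by
    have e : Subgroup.centralizer ({y₁} : Set G) =
        (Subgroup.centralizer ({x} : Set G)).map (MulAut.conj g).toMonoidHom := by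
      ext a
      rw [Subgroup.mem_map, Subgroup.mem_centralizer_singleton_iff]
      constructor
      · intro h
        refine ⟨g⁻¹ * a * g, Subgroup.mem_centralizer_singleton_iff.2 ?_, by simp [mul_assoc]⟩
        calc g⁻¹ * a * g * x = g⁻¹ * (a * y₁) * g := by rw [← hg]; group
          _ = g⁻¹ * (y₁ * a) * g := by rw [h]
          _ = _ := by rw [← hg]; group
      · rintro ⟨a', ha', rfl⟩
        simp only [MulEquiv.coe_toMonoidHom, MulAut.conj_apply]
        rw [← hg]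
        calc g * a' * g⁻¹ * (g * x * g⁻¹) = g * (a' * x) * g⁻¹ := by group
          _ = _ := by rw [Subgroup.mem_centralizer_singleton_iff.1 ha']; group
    rw [e]
    exact (Nat.card_congr (Subgroup.equivMapOfInjective _ _
      (show Function.Injective (MulAut.conj g).toMonoidHom from (MulAut.conj g).injective)).toEquiv).symm
  have h2 := two_part_le H hp ha hv hyy
  have hdvd : Nat.card ↥(cZSX P x) ∣ Nat.card ↥(Subgroup.centralizer ({x} : Set G)) :=
    Subgroup.card_dvd_of_le (inf_le_left.trans inf_le_right)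
  rw [← hK] at hdvd
  have hr := card_ratio P hx hy₁
  set a₀ := Nat.card ↥(cZSX P x)
  set a₁ := Nat.card ↥(cZSX P y₁)
  set N := Nat.card ↥(Subgroup.centralizer ({y₁} : Set G)) with hN
  have hN0 : N ≠ 0 := Nat.card_pos.ne'
  have ha₀ : a₀ ≠ 0 := Nat.card_pos.ne'
  have ha₁ : a₁ ≠ 0 := Nat.card_pos.ne'
  have f0 : (15 * a₀).factorization 2 = a₀.factorization 2 := by
    rw [Nat.factorization_mul (by norm_num) ha₀, Finsupp.add_apply,
      Nat.factorization_eq_zero_of_not_dvd (n := 15) (by norm_num), zero_add]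
  have f1 : (8 * a₁).factorization 2 = 3 + a₁.factorization 2 := by
    rw [Nat.factorization_mul (by norm_num) ha₁, Finsupp.add_apply,
      show (8 : ℕ) = 2 ^ 3 by norm_num, Nat.prime_two.factorization_pow, Finsupp.single_eq_same]
  have f2 : (2 * a₁).factorization 2 = 1 + a₁.factorization 2 := by
    rw [Nat.factorization_mul (by norm_num) ha₁, Finsupp.add_apply,
      Nat.prime_two.factorization_self]
  have h3 : a₀.factorization 2 ≤ N.factorization 2 :=
    (Nat.factorization_le_iff_dvd ha₀ hN0).2 hdvd 2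
  have h4 := (Nat.prime_two.pow_dvd_iff_le_factorization (by omega)).1 h2
  rw [hr] at f0
  omega

end Cfsg.Agent.Lib.CoType29
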