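import Cfsg.Agent.Lib.CoType29.DistinctTyped

/-!
# Counting the typed involutions of a pair (written by helper29)

`C(z, s)` acts transitively on the `4 · 630` involutions of type `0` and on the `4 · 336` of
type `1`, so the orders of the stabilisers are in the ratio `8 : 15`.
-/

set_option autoImplicit false
set_option synthInstance.maxSize 1024

namespace Cfsg.Agent.Lib.CoType29

open Co1Type47

/-- A pair of parameters of type `ε`. -/
def PairOK (ε : ZMod 2) (p : W6 × W6) : Prop :=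
  p.1 ≠ 0 ∧ p.2 ≠ 0 ∧ p.1 ≠ p.2 ∧ qW p.1 = ε ∧ qW p.2 = ε ∧ bW p.1 p.2 = ε

instance (ε : ZMod 2) : DecidablePred (PairOK ε) := fun p => by unfold PairOK; infer_instance

theorem card_pairOK : (Finset.univ.filter (PairOK 0)).card = 630 ∧
    (Finset.univ.filter (PairOK 1)).card = 336 := by decide +kernel

variable {G : Type*} [Group G] {z s : G} {Qf : G → Subgroup G} (P : Co1Type47.Pair z s Qf)

/-- `C(z, s)`. -/
def cZS (_ : Co1Type47.Pair z s Qf) : Subgroup G :=
  Subgroup.centralizer ({z} : Set G) ⊓ Subgroup.centralizer ({s} : Set G)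

/-- `C(z, s, x)`. -/
def cZSX (_ : Co1Type47.Pair z s Qf) (x : G) : Subgroup G :=
  (Subgroup.centralizer ({z} : Set G) ⊓ Subgroup.centralizer ({x} : Set G)) ⊓
    Subgroup.centralizer ({s} : Set G)

theorem mem_cZS {c : G} : c ∈ cZS P ↔ c * z = z * c ∧ c * s = s * c := by
  simp only [cZS, Subgroup.mem_inf, Subgroup.mem_centralizer_singleton_iff]

theorem mem_cZSX {x c : G} :
    c ∈ cZSX P x ↔ c * z = z * c ∧ c * x = x * c ∧ c * s = s * c := by
  simp only [cZSX, Subgroup.mem_inf, Subgroup.mem_centralizer_singleton_iff, and_assoc]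

theorem typed_of_conj {ε : ZMod 2} {x c : G} (hcz : c * z = z * c) (hcs : c * s = s * c)
    (hx : P.Typed ε x) : P.Typed ε (c * x * c⁻¹) := by
  obtain ⟨b, q, h⟩ := hx
  have hce : P.D.act c e₀ = e₀ := by
    rw [← P.phi_s, ← P.D.act_phi c hcz s P.s_mem, LargeExtra.conj_eq_iff_comm.2 hcs]
  set T : W6 → W6 := fun w => (P.D.act c (emb w)).2.2 with hT
  have hadd := P.D.act_add hcz fun a ha => P.gz.norm c hcz a ha
  have h0 : ∀ w, (P.D.act c (emb w)).2.1 = 0 := fun w => by
    rw [← bV_e₀]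
    conv_lhs => rw [← hce]
    rw [P.D.act_bil P.gz hcz, bV_e₀]; rfl
  have hq : ∀ w, qW (T w) = qW w := fun w => by
    have e := P.D.act_iso c hcz (emb w)
    simp [qV, h0 w] at e
    simpa [emb, hT] using e
  have hb : ∀ u w, bW (T u) (T w) = bW u w := fun u w => by
    have e := P.D.act_bil P.gz hcz (emb u) (emb w)
    simp [bV, h0 u, h0 w] at e
    simpa [emb, hT] using e
  have hTadd : ∀ u w, T (u + w) = T u + T w := fun u w => by
    simp [hT, show emb (u + w) = emb u + emb w by simp [emb], hadd]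
  have hT0 : ∀ w, T w = 0 → w = 0 := fun w hw => bW_nondeg w fun u => by
    rw [← hb, hw]; simp [bW, bH]
  refine ⟨c * b * c⁻¹, c * q * c⁻¹, P.gs.norm c hcs b h.hb,
    ((Commute.mul_left (Commute.mul_left hcz h.hbz) (Commute.inv_left hcz)) :),
    P.gz.norm c hcz q h.hq,
    ((Commute.mul_left (Commute.mul_left hcs h.hqs) (Commute.inv_left hcs)) :),
    by rw [h.eq]; group, ?_, ?_, ?_, ?_, ?_, ?_⟩
  all_goals simp only [P.alpha_conj h.hb h.hbz hcz hcs, P.wPart_conj hcz hce h.hq h.hqs]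
  · exact fun e => h.a_ne (hT0 _ e)
  · exact fun e => h.v_ne (hT0 _ e)
  · intro e
    refine h.ne (w6_eq_of_add (hT0 _ ?_))
    rw [hTadd]
    show T (P.alpha b) + T (P.wPart q) = 0
    rw [show T (P.alpha b) = T (P.wPart q) from e, add_self_w]
  · exact (hq _).trans h.qa
  · exact (hq _).trans h.qv
  · exact (hb _ _).trans h.av

/-- The number of involutions of a type. -/
theorem card_typed (ε : ZMod 2) :
    Nat.card {x : G // P.Typed ε x} = (Finset.univ.filter (PairOK ε)).card * 4 := by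
  classical
  choose ql hql hqlphi using fun v : W6 => P.D.phi_surj (emb v)
  let el : W6 × W6 → ZMod 2 × ZMod 2 → G := fun p k =>
    P.lift p.1 * (ql p.2 * (bpow s k.1 * bpow z k.2))
  have hqls : ∀ v, ql v * s = s * ql v := fun v =>
    (P.commute_s (hql v)).2 (by rw [hqlphi]; rfl)
  have hd : ∀ k : ZMod 2 × ZMod 2, bpow s k.1 * bpow z k.2 ∈ Qf z := fun k => by
    rcases bpow_cases s k.1 with e | e <;> rcases bpow_cases z k.2 with e' | e' <;> rw [e, e']
    exacts [mul_mem (one_mem _) (one_mem _), mul_mem (one_mem _) P.gz.x_mem,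
      mul_mem P.s_mem (one_mem _), mul_mem P.s_mem P.gz.x_mem]
  have hds : ∀ k : ZMod 2 × ZMod 2,
      bpow s k.1 * bpow z k.2 * s = s * (bpow s k.1 * bpow z k.2) := fun k =>
    (P.commute_bpow P.comm rfl k.1 k.2).eq.symm
  have hparts : ∀ p, PairOK ε p → ∀ k : ZMod 2 × ZMod 2,
      P.Parts ε (el p k) (P.lift p.1) (ql p.2 * (bpow s k.1 * bpow z k.2)) := by
    intro p hp k
    have hw : P.wPart (ql p.2 * (bpow s k.1 * bpow z k.2)) = p.2 := by
      show (P.D.phi _).2.2 = _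
      rw [P.D.phi_mul _ (hql _) _ (hd k), hqlphi, P.phi_bpow]
      simp [emb]
    refine ⟨P.lift_mem _, P.lift_comm _, mul_mem (hql _) (hd k),
      (Commute.mul_left (hqls p.2) (hds k) :), rfl, ?_, ?_, ?_, ?_, ?_, ?_⟩
    all_goals simp only [P.alpha_lift, hw]
    exacts [hp.1, hp.2.1, hp.2.2.1, hp.2.2.2.1, hp.2.2.2.2.1, hp.2.2.2.2.2]
  let f : {p : W6 × W6 // PairOK ε p} × (ZMod 2 × ZMod 2) → {x : G // P.Typed ε x} :=
    fun p => ⟨el p.1.1 p.2, _, _, hparts _ p.1.2 p.2⟩
  have hinj : Function.Injective f := by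
    intro p p' e
    have e' : el p.1.1 p.2 = el p'.1.1 p'.2 := congrArg Subtype.val e
    have ha : p.1.1.1 = p'.1.1.1 := by
      have h1 := Rep.act_eq (hparts _ p.1.2 p.2) f₀
      rw [e', Rep.act_eq (hparts _ p'.1.2 p'.2) f₀, P.alpha_lift,
        P.alpha_lift] at h1
      simpa [siegel, f₀] using (congrArg (fun w : V8 => w.2.2) h1).symm
    simp only [el, ha] at e'
    have e2 := mul_left_cancel e'
    have e3 := congrArg P.D.phi e2
    rw [P.D.phi_mul _ (hql _) _ (hd _), P.D.phi_mul _ (hql _) _ (hd _), hqlphi, hqlphi,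
      P.phi_bpow, P.phi_bpow] at e3
    have hv : p.1.1.2 = p'.1.1.2 := by
      simpa [emb] using congrArg (fun w : V8 => w.2.2) e3
    rw [hv] at e2
    obtain ⟨h1, h2⟩ := P.bpow_split (mul_left_cancel e2)
    exact Prod.ext (Subtype.ext (Prod.ext ha hv)) (Prod.ext h1 h2)
  have hsurj : Function.Surjective f := by
    rintro ⟨x, b, q, h⟩
    set a := P.alpha b
    set v := P.wPart q
    have hli : (P.lift a)⁻¹ * z = z * (P.lift a)⁻¹ := (Commute.inv_left (P.lift_comm a) :)
    have h1 : InP z s ((P.lift a)⁻¹ * b) :=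
      P.mem_of_alpha_eq_zero (mul_mem (inv_mem (P.lift_mem a)) h.hb)
        ((Commute.mul_left hli h.hbz) :) (by
          rw [P.alpha_mul (inv_mem (P.lift_mem a)) hli h.hb h.hbz,
            P.alpha_inv (P.lift_mem a) (P.lift_comm a), P.alpha_lift, add_self_w])
    have h2 : InP z s ((ql v)⁻¹ * q) := by
      refine (P.inP_iff (mul_mem (inv_mem (hql v)) h.hq)).2 ?_
      rw [P.D.phi_mul _ (inv_mem (hql v)) _ h.hq, P.D.phi_inv P.gz (hql v), hqlphi]
      have h3 : P.D.phi q = ((P.D.phi q).1, 0, v) :=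
        Prod.ext rfl (Prod.ext ((P.commute_s h.hq).1 h.hqs) rfl)
      rw [h3]
      rcases zmod_cases (P.D.phi q).1 with r | r
      · exact Or.inl (by simp [emb, r, add_self_w])
      · exact Or.inr (by simp [emb, e₀, r, add_self_w])
    obtain ⟨i, j, hij⟩ := P.inP_elim h1
    obtain ⟨i', j', hij'⟩ := P.inP_elim h2
    refine ⟨(⟨(a, v), h.a_ne, h.v_ne, h.ne, h.qa, h.qv, h.av⟩, (i + i', j + j')),
      Subtype.ext ?_⟩
    show P.lift a * (ql v * (bpow s (i + i') * bpow z (j + j'))) = x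
    have hc := (P.commute_bpow (P.gz.le_cent q h.hq) h.hqs i j).eq
    have e : bpow s (i + i') * bpow z (j + j') =
        (bpow s i' * bpow z j') * (bpow s i * bpow z j) := by
      rw [add_comm i, add_comm j, ← bpow_mul P.ss, ← bpow_mul P.zz]
      rw [mul_assoc, mul_assoc, ← mul_assoc (bpow z j'), ← P.bpow_comm i, mul_assoc]
    rw [h.eq, e]
    calc P.lift a * (ql v * ((bpow s i' * bpow z j') * (bpow s i * bpow z j)))
        = P.lift a * (ql v * ((ql v)⁻¹ * q) * ((P.lift a)⁻¹ * b)) := by rw [hij, hij']; group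
      _ = P.lift a * (((P.lift a)⁻¹ * b) * q) := by rw [hij, ← hc]; group
      _ = b * q := by group
  rw [← Nat.card_congr (Equiv.ofBijective f ⟨hinj, hsurj⟩), Nat.card_prod, Nat.card_prod,
    Nat.card_zmod, Nat.card_eq_fintype_card, Fintype.card_subtype]

/-- Orbit and stabiliser. -/
theorem card_orbit [Finite G] {ε : ZMod 2} {x : G} (hx : P.Typed ε x) :
    Nat.card ↥(cZS P) = Nat.card {y : G // P.Typed ε y} * Nat.card ↥(cZSX P x) := by
  classical
  let f : ↥(cZS P) → {y : G // P.Typed ε y} := fun c =>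
    ⟨c * x * (c : G)⁻¹, typed_of_conj P ((mem_cZS P).1 c.2).1 ((mem_cZS P).1 c.2).2 hx⟩
  have hfib : ∀ y, Nonempty ({c : ↥(cZS P) // f c = y} ≃ ↥(cZSX P x)) := by
    intro y
    obtain ⟨c₀, hz₀, hs₀, h₀⟩ := P.typed_conj hx y.2
    have key : ∀ c : ↥(cZS P), f c = y ↔ c₀⁻¹ * c ∈ cZSX P x := by
      intro c
      obtain ⟨hcz, hcs⟩ := (mem_cZS P).1 c.2
      rw [mem_cZSX P, Subtype.ext_iff]
      constructor
      · intro e
        refine ⟨(Commute.mul_left (Commute.inv_left hz₀) hcz :),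
          LargeExtra.conj_eq_iff_comm.1 ?_, (Commute.mul_left (Commute.inv_left hs₀) hcs :)⟩
        calc c₀⁻¹ * c * x * (c₀⁻¹ * c)⁻¹ = c₀⁻¹ * (c * x * (c : G)⁻¹) * c₀ := by group
          _ = c₀⁻¹ * (c₀ * x * c₀⁻¹) * c₀ := by rw [h₀, ← e]
          _ = x := by group
      · rintro ⟨-, e, -⟩
        show (c : G) * x * (c : G)⁻¹ = y
        rw [← h₀]
        calc (c : G) * x * (c : G)⁻¹
            = c₀ * (c₀⁻¹ * c * x * (c₀⁻¹ * c)⁻¹) * c₀⁻¹ := by group
          _ = _ := by rw [LargeExtra.conj_eq_iff_comm.2 e]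
    refine ⟨{
      toFun := fun c => ⟨c₀⁻¹ * c.1, (key c.1).1 c.2⟩
      invFun := fun k => ⟨⟨c₀ * k, (mem_cZS P).2
        ⟨(Commute.mul_left hz₀ ((mem_cZSX P).1 k.2).1 :),
          (Commute.mul_left hs₀ ((mem_cZSX P).1 k.2).2.2 :)⟩⟩,
        (key _).2 (by simp)⟩
      left_inv := fun c => Subtype.ext (Subtype.ext (by simp))
      right_inv := fun k => Subtype.ext (by simp) }⟩
  rw [← Nat.card_prod]
  exact Nat.card_congr ((Equiv.sigmaFiberEquiv f).symm.trans
    (Equiv.sigmaEquivProdOfEquiv fun y => (hfib y).some))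

/-- The stabilisers of the two types. -/
theorem card_ratio [Finite G] {x y : G} (hx : P.Typed 0 x) (hy : P.Typed 1 y) :
    15 * Nat.card ↥(cZSX P x) = 8 * Nat.card ↥(cZSX P y) := by
  have h0 := card_orbit P hx
  have h1 := card_orbit P hy
  rw [card_typed, card_pairOK.1] at h0
  rw [card_typed, card_pairOK.2] at h1
  omega

end Cfsg.Agent.Lib.CoType29
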