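import Cfsg.Agent.Lib.Co1Type47.Involution
import Cfsg.Agent.Lib.Co1Type47.Typed

/-!
# Isometries fixing the five-space of a typed involution pointwise (written by helper29)

For the representative pair `(a, v)` of type `ε`, `InU ε` is `e₀ + ⟨a, v⟩^⊥`. An isometry fixing
it pointwise is determined by the images of three vectors, so there are at most `8` (`ε = 0`),
resp. `24` (`ε = 1`) of them; for `ε = 1` the involutory ones are Siegel maps or products of one with a
transvection.
-/

set_option autoImplicit false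
set_option synthInstance.maxSize 8192
set_option synthInstance.maxHeartbeats 1000000

namespace Cfsg.Agent.Lib.CoType29

open Co1Type47

/-- The vector of the line of `a` and `v` with coefficients `j`, `k`. -/
def lineVec (ε j k : ZMod 2) : W6 := j • repA ε + k • repV ε

/-- The five-space fixed by a typed involution of type `ε`. -/
def InU (ε : ZMod 2) (u : V8) : Prop :=
  u.2.1 = 0 ∧ bW u.2.2 (repA ε) = 0 ∧ bW u.2.2 (repV ε) = 0

instance (ε : ZMod 2) : DecidablePred (InU ε) := fun u => by unfold InU; infer_instance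

/-- Vectors dual to `a` and `v`. -/
def yA (ε : ZMod 2) : W6 := if ε = 0 then g₁ else w₁
def yV (ε : ZMod 2) : W6 := if ε = 0 then ((0, 0), (0, 1), (0, 0)) else w₂

/-- Generators of the five-space. -/
def uGen (ε : ZMod 2) : List V8 :=
  if ε = 0 then [e₀, emb w₁, emb w₂, emb w₃, emb ((0, 0), (0, 0), (0, 1))]
  else [e₀, emb w₃, emb ((0, 0), (0, 0), (0, 1)), emb u₂, emb ((1, 1), (1, 0), (0, 0))]

/-- An element of the orthogonal of the five-space. -/
def dVec (ε : ZMod 2) (p : ZMod 2 × ZMod 2 × ZMod 2) : V8 := (p.1, 0, lineVec ε p.2.1 p.2.2)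

theorem uGen_inU : ∀ ε : ZMod 2, ∀ u ∈ uGen ε, InU ε u := by decide +kernel

theorem perp_inU : ∀ ε : ZMod 2, ∀ d : V8, (∀ u ∈ uGen ε, bV d u = 0) →
    ∃ p, d = dVec ε p := by decide +kernel

theorem split_inU : ∀ ε : ZMod 2, ∀ x : V8, InU ε (x + x.2.1 • f₀
    + bW x.2.2 (repA ε) • emb (yA ε) + bW x.2.2 (repV ε) • emb (yV ε)) := by decide +kernel

/-- Triples of images compatible with the form. -/
def Valid (ε : ZMod 2)
    (p : (ZMod 2 × ZMod 2 × ZMod 2) × (ZMod 2 × ZMod 2 × ZMod 2) × (ZMod 2 × ZMod 2 × ZMod 2)) :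
    Prop :=
  qV (f₀ + dVec ε p.1) = 0 ∧ qV (emb (yA ε) + dVec ε p.2.1) = qW (yA ε) ∧
    qV (emb (yV ε) + dVec ε p.2.2) = qW (yV ε) ∧
    bV (f₀ + dVec ε p.1) (emb (yA ε) + dVec ε p.2.1) = 0 ∧
    bV (f₀ + dVec ε p.1) (emb (yV ε) + dVec ε p.2.2) = 0 ∧
    bV (emb (yA ε) + dVec ε p.2.1) (emb (yV ε) + dVec ε p.2.2) = bW (yA ε) (yV ε)

instance (ε : ZMod 2) : DecidablePred (Valid ε) := fun p => by unfold Valid; infer_instance

theorem card_valid : (Finset.univ.filter (Valid 0)).card ≤ 8 ∧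
    (Finset.univ.filter (Valid 1)).card ≤ 24 := by decide +kernel

/-- The involutory maps induced on `W6`. -/
theorem valid_invol : ∀ ε j₁ k₁ j₂ k₂ : ZMod 2, ε = 1 →
    qW (yA ε + lineVec ε j₁ k₁) = qW (yA ε) → qW (yV ε + lineVec ε j₂ k₂) = qW (yV ε) →
    bW (yA ε + lineVec ε j₁ k₁) (yV ε + lineVec ε j₂ k₂) = bW (yA ε) (yV ε) →
    bW (lineVec ε j₁ k₁) (repA ε) • lineVec ε j₁ k₁
      + bW (lineVec ε j₁ k₁) (repV ε) • lineVec ε j₂ k₂ = 0 →
    bW (lineVec ε j₂ k₂) (repA ε) • lineVec ε j₁ k₁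
      + bW (lineVec ε j₂ k₂) (repV ε) • lineVec ε j₂ k₂ = 0 →
    (lineVec ε j₁ k₁ = 0 ∧ lineVec ε j₂ k₂ = 0) ∨
    ∃ j k, qW (lineVec ε j k) = 1 ∧
      lineVec ε j₁ k₁ + bW (lineVec ε j k) (yA ε + lineVec ε j₁ k₁) • lineVec ε j k = 0 ∧
      lineVec ε j₂ k₂ + bW (lineVec ε j k) (yV ε + lineVec ε j₂ k₂) • lineVec ε j k = 0 := by
  decide +kernel

/-- An isometry fixing the five-space pointwise. -/
structure FixU (ε : ZMod 2) (t : V8 → V8) : Prop where
  add : ∀ u v, t (u + v) = t u + t v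
  iso : ∀ v, qV (t v) = qV v
  fix : ∀ u, InU ε u → t u = u

namespace FixU

variable {ε : ZMod 2} {t t' : V8 → V8}

theorem zero (ht : FixU ε t) : t 0 = 0 := by
  have := ht.add 0 0
  rw [add_zero] at this
  exact left_eq_add.1 this

theorem smul (ht : FixU ε t) (k : ZMod 2) (v : V8) : t (k • v) = k • t v := by
  rcases zmod_cases k with rfl | rfl <;> simp [ht.zero]

theorem bil (ht : FixU ε t) (u v : V8) : bV (t u) (t v) = bV u v := by
  have h := ht.iso (u + v)
  rw [ht.add, qV_add, qV_add, ht.iso, ht.iso] at h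
  exact add_left_cancel h

theorem exists_delta (ht : FixU ε t) (y : V8) : ∃ p, t y = y + dVec ε p := by
  obtain ⟨p, hp⟩ := perp_inU ε (t y + y) fun u hu => by
    have hf := ht.fix u (uGen_inU ε u hu)
    rw [bV_add_left]
    conv_lhs => rw [← hf, ht.bil, hf]
    exact (by decide : ∀ r : ZMod 2, r + r = 0) _
  exact ⟨p, by rw [← hp, add_comm (t y), ← add_assoc, add_self, zero_add]⟩

/-- The images of the three complementary vectors. -/
noncomputable def code (ht : FixU ε t) :
    (ZMod 2 × ZMod 2 × ZMod 2) × (ZMod 2 × ZMod 2 × ZMod 2) × (ZMod 2 × ZMod 2 × ZMod 2) :=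
  ((ht.exists_delta f₀).choose, (ht.exists_delta (emb (yA ε))).choose,
    (ht.exists_delta (emb (yV ε))).choose)

theorem code_spec (ht : FixU ε t) : t f₀ = f₀ + dVec ε ht.code.1 ∧
    t (emb (yA ε)) = emb (yA ε) + dVec ε ht.code.2.1 ∧
    t (emb (yV ε)) = emb (yV ε) + dVec ε ht.code.2.2 :=
  ⟨(ht.exists_delta f₀).choose_spec, (ht.exists_delta (emb (yA ε))).choose_spec,
    (ht.exists_delta (emb (yV ε))).choose_spec⟩

theorem valid (ht : FixU ε t) : Valid ε ht.code := by
  obtain ⟨h1, h2, h3⟩ := ht.code_spec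
  refine ⟨?_, ?_, ?_, ?_, ?_, ?_⟩
  · rw [← h1, ht.iso]; rfl
  · rw [← h2, ht.iso]; simp [qV, emb]
  · rw [← h3, ht.iso]; simp [qV, emb]
  · rw [← h1, ← h2, ht.bil]; simp [bV, f₀, emb, bW, bH]
  · rw [← h1, ← h3, ht.bil]; simp [bV, f₀, emb, bW, bH]
  · rw [← h2, ← h3, ht.bil]; simp [bV, emb]

theorem apply_eq (ht : FixU ε t) (x : V8) :
    t x = x + (x.2.1 • dVec ε ht.code.1 + bW x.2.2 (repA ε) • dVec ε ht.code.2.1
      + bW x.2.2 (repV ε) • dVec ε ht.code.2.2) := by
  obtain ⟨h1, h2, h3⟩ := ht.code_spec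
  have h := ht.fix _ (split_inU ε x)
  simp only [ht.add, ht.smul, h1, h2, h3, smul_add] at h
  set u := x.2.1 • f₀
  set ua := bW x.2.2 (repA ε) • emb (yA ε)
  set uv := bW x.2.2 (repV ε) • emb (yV ε)
  set d₀ := x.2.1 • dVec ε ht.code.1
  set da := bW x.2.2 (repA ε) • dVec ε ht.code.2.1
  set dv := bW x.2.2 (repV ε) • dVec ε ht.code.2.2
  have e : t x + (d₀ + da + dv) = x := by
    refine add_right_cancel (b := u + ua + uv) ?_
    calc t x + (d₀ + da + dv) + (u + ua + uv) = t x + (u + d₀) + (ua + da) + (uv + dv) := by abel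
      _ = x + u + ua + uv := h
      _ = x + (u + ua + uv) := by abel
  conv_rhs => rw [← e]
  rw [add_assoc, add_self, add_zero]

theorem ext_code (ht : FixU ε t) (ht' : FixU ε t') (h : ht.code = ht'.code) : t = t' :=
  funext fun x => by rw [ht.apply_eq, ht'.apply_eq, h]

/-- Composition with a transvection of the fixed line. -/
theorem refl_comp (ht : FixU ε t) {j k : ZMod 2} (hm : qW (lineVec ε j k) = 1) :
    FixU ε fun v => refl (emb (lineVec ε j k)) (t v) where
  add u v := by rw [ht.add, refl_add]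
  iso v := by rw [refl_iso (by simp [qV, emb, hm]), ht.iso]
  fix u hu := by
    rw [ht.fix u hu]
    refine refl_of_orth ?_
    have h1 : bV (emb (lineVec ε j k)) u = bW (lineVec ε j k) u.2.2 := by
      simp [bV, emb, hu.1]
    have ha : bW (repA ε) u.2.2 = 0 := (bW_comm _ _).trans hu.2.1
    have hv : bW (repV ε) u.2.2 = 0 := (bW_comm _ _).trans hu.2.2
    have h0 : bW 0 u.2.2 = 0 := by simp [bW, bH]
    rw [h1, lineVec, bW_add_left]
    rcases zmod_cases j with rfl | rfl <;> rcases zmod_cases k with rfl | rfl <;>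
      simp only [zero_smul, one_smul, ha, hv, h0, add_zero]

/-- Nothing moves modulo `e₀` when the line coefficients vanish. -/
theorem snd_eq (ht : FixU ε t) (k2 : lineVec ε ht.code.2.1.2.1 ht.code.2.1.2.2 = 0)
    (k3 : lineVec ε ht.code.2.2.2.1 ht.code.2.2.2.2 = 0) (w : W6) : (t (emb w)).2.2 = w := by
  rw [ht.apply_eq]
  simp [emb, dVec, k2, k3]

end FixU

/-- Fewer than sixteen isometries fix the five-space, if no two differ by a transvection. -/
theorem card_fixU_lt {ε : ZMod 2} {α : Type*} [Finite α] (f : α → V8 → V8)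
    (hinj : Function.Injective f) (hfix : ∀ i, FixU ε (f i))
    (hrefl : ∀ i i' v, qV v = 1 → f i ≠ fun w => refl v (f i' w)) : Nat.card α < 16 := by
  classical
  have hsub : ∀ {β : Type _} [Finite β] (g : β → V8 → V8), Function.Injective g →
      (∀ i, FixU ε (g i)) → Nat.card β ≤ (Finset.univ.filter (Valid ε)).card := by
    intro β _ g hg hgf
    rw [← Fintype.card_coe, ← Nat.card_eq_fintype_card]
    refine Nat.card_le_card_of_injective
      (fun i => ⟨(hgf i).code, Finset.mem_filter.2 ⟨Finset.mem_univ _, (hgf i).valid⟩⟩)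
      fun i i' e => hg ((hgf i).ext_code (hgf i') (congrArg Subtype.val e))
  rcases zmod_cases ε with rfl | rfl
  · exact lt_of_le_of_lt ((hsub f hinj hfix).trans card_valid.1) (by norm_num)
  · have hm : qW (lineVec 1 1 0) = 1 := by decide
    have hv : qV (emb (lineVec 1 1 0)) = 1 := by decide
    let g : α ⊕ α → V8 → V8 :=
      Sum.elim f fun i w => refl (emb (lineVec 1 1 0)) (f i w)
    have hg : Function.Injective g := by
      rintro (i | i) (i' | i') e
      · exact congrArg Sum.inl (hinj e)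
      · exact absurd e (hrefl i i' _ hv)
      · exact absurd e.symm (hrefl i' i _ hv)
      · refine congrArg Sum.inr (hinj (funext fun w => ?_))
        have h := congrArg (refl (emb (lineVec 1 1 0))) (congrFun e w)
        simpa [g, refl_refl] using h
    have h := (hsub g hg fun i => by
      rcases i with i | i
      exacts [hfix i, (hfix i).refl_comp hm]).trans card_valid.2
    rw [Nat.card_sum] at h
    omega

/-- For `ε = 1`: an involutory isometry fixing the five-space is a Siegel map of the line or the product of one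
with a transvection. -/
theorem fixU_invol {ε : ZMod 2} (hε : ε = 1) {t : V8 → V8} (ht : FixU ε t)
    (hinv : ∀ v, t (t v) = v) :
    (∃ j k, ∀ v, t v = siegel (lineVec ε j k) v) ∨
      ∃ m a, qV m = 1 ∧ ∀ v, t (siegel a v) = refl m v := by
  obtain ⟨-, h2, h3⟩ := ht.code_spec
  obtain ⟨-, v2, v3, -, -, v6⟩ := ht.valid
  set p₂ := ht.code.2.1
  set p₃ := ht.code.2.2
  have hW : ∀ w : W6, (t (emb w)).2.2 = w + (bW w (repA ε) • lineVec ε p₂.2.1 p₂.2.2
      + bW w (repV ε) • lineVec ε p₃.2.1 p₃.2.2) := fun w => by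
    rw [ht.apply_eq]
    simp [emb, dVec, p₂, p₃]
  have hi : ∀ y : W6, ∀ q, t (emb y) = emb y + dVec ε q → lineVec ε q.2.1 q.2.2
      + (t (dVec ε q)).2.2 = 0 := fun y q e => by
    have h := congrArg (fun u : V8 => u.2.2) (congrArg t e)
    simp only [hinv, ht.add, Prod.snd_add] at h
    rw [e] at h
    simp only [Prod.snd_add, dVec] at h ⊢
    simpa [emb, add_assoc] using h
  have hd : ∀ q : ZMod 2 × ZMod 2 × ZMod 2, (t (dVec ε q)).2.2 = lineVec ε q.2.1 q.2.2
      + (bW (lineVec ε q.2.1 q.2.2) (repA ε) • lineVec ε p₂.2.1 p₂.2.2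
      + bW (lineVec ε q.2.1 q.2.2) (repV ε) • lineVec ε p₃.2.1 p₃.2.2) := fun q => by
    rw [ht.apply_eq]
    simp [dVec, p₂, p₃]
  have i2 := hi _ _ h2
  have i3 := hi _ _ h3
  rw [hd, ← add_assoc, add_self_w, zero_add] at i2 i3
  have siegelLine : ∀ {g : V8 → V8}, FixU ε g → ∀ {a : W6}, (∀ v, g v = siegel a v) →
      ∃ j k, a = lineVec ε j k := by
    intro g hg a ha
    obtain ⟨p, hp⟩ := perp_inU ε (0, 0, a) fun u hu => by
      have hu' := uGen_inU ε u hu
      have e := congrArg (fun w : V8 => w.1) ((hg.fix u hu').symm.trans (ha u))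
      simp only [siegel, hu'.1, zero_mul, add_zero] at e
      have : bW u.2.2 a = 0 := left_eq_add.1 e
      simpa [bV, hu'.1, bW_comm a] using this
    exact ⟨p.2.1, p.2.2, congrArg (fun w : V8 => w.2.2) hp⟩
  have he : t e₀ = e₀ := ht.fix _ ⟨rfl, by simp [e₀, bW, bH], by simp [e₀, bW, bH]⟩
  have q2 : qW (yA ε + lineVec ε p₂.2.1 p₂.2.2) = qW (yA ε) := by
    simpa [qV, emb, dVec] using v2
  have q3 : qW (yV ε + lineVec ε p₃.2.1 p₃.2.2) = qW (yV ε) := by
    simpa [qV, emb, dVec] using v3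
  have q6 : bW (yA ε + lineVec ε p₂.2.1 p₂.2.2) (yV ε + lineVec ε p₃.2.1 p₃.2.2) =
      bW (yA ε) (yV ε) := by
    simpa [bV, emb, dVec] using v6
  rcases valid_invol ε _ _ _ _ hε q2 q3 q6 i2 i3 with ⟨z2, z3⟩ | ⟨j, k, hm, z2, z3⟩
  · obtain ⟨a, ha⟩ := exists_siegel ht.add ht.iso he fun w => by rw [hW, z2, z3]; simp
    obtain ⟨j, k, rfl⟩ := siegelLine ht ha
    exact Or.inl ⟨j, k, ha⟩
  · set m := lineVec ε j k with hmdef
    have hg := ht.refl_comp hm
    have hgW : ∀ w, (refl (emb m) (t (emb w))).2.2 = w := fun w => by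
      obtain ⟨-, g2, g3⟩ := hg.code_spec
      replace g2 : refl (emb m) (t (emb (yA ε))) = emb (yA ε) + dVec ε hg.code.2.1 := g2
      replace g3 : refl (emb m) (t (emb (yV ε))) = emb (yV ε) + dVec ε hg.code.2.2 := g3
      have key : ∀ y q d, t (emb y) = emb y + dVec ε q →
          refl (emb m) (t (emb y)) = emb y + dVec ε d →
          lineVec ε q.2.1 q.2.2 + bW m (y + lineVec ε q.2.1 q.2.2) • m = 0 →
          lineVec ε d.2.1 d.2.2 = 0 := by
        intro y q d e e' hz
        rw [e] at e'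
        have hb : bV (emb m) (emb y + dVec ε q) = bW m (y + lineVec ε q.2.1 q.2.2) := by
          simp [bV, emb, dVec]
        have h := congrArg (fun u : V8 => u.2.2) e'
        simp only [Co1Type47.refl, hb, Prod.snd_add] at h
        have h' : (if bW m (y + lineVec ε q.2.1 q.2.2) = 0 then (0 : V8) else emb m).2.2 =
            bW m (y + lineVec ε q.2.1 q.2.2) • m := by
          rcases zmod_cases (bW m (y + lineVec ε q.2.1 q.2.2)) with r | r <;> simp [r, emb]
        rw [h'] at h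
        simp only [dVec] at h
        rw [add_assoc, hz, add_zero] at h
        exact left_eq_add.1 h
      have k2 := key _ _ _ h2 g2 z2
      have k3 := key _ _ _ h3 g3 z3
      exact hg.snd_eq k2 k3 w
    obtain ⟨a, ha⟩ := exists_siegel hg.add hg.iso
      (by show refl (emb m) (t e₀) = e₀; rw [he, refl_of_orth]; simp [bV, emb, e₀, bW, bH]) hgW
    refine Or.inr ⟨emb m, a, by simp [qV, emb, hm], fun v => ?_⟩
    have h := congrArg (refl (emb m)) (ha (siegel a v))
    rw [refl_refl, siegel_siegel, add_self_w, siegel_zero] at h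
    exact h

end Cfsg.Agent.Lib.CoType29
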