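import Mathlib
import Cfsg.Agent.Lib.CoType29.Act
import Cfsg.Agent.Lib.Classical.EichlerStandard
import Cfsg.Agent.Lib.Classical.Standard
import Cfsg.Agent.Lib.Forms.Parity

/-!
# The centralizer quotient of Conway type acts as `Ω⁺₈(2)` (written by helper29)
-/

set_option autoImplicit false

namespace Cfsg.Agent.Lib.CoType29

open Subgroup Cfsg.Agent.Lib.ExtraStruct Cfsg.Agent.Lib.ExtraTwoCoord

/-- The hyperbolic form of dimension eight over two elements. -/
abbrev qPlus : (Fin 4 ⊕ Fin 4 → ZMod 2) → ZMod 2 := Cfsg.quadFormPlus 4 (ZMod 2)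

theorem nondeg_plus : (QuadraticMap.polarBilin (Classical.plusForm 4 (ZMod 2))).Nondegenerate :=
  (Classical.plusModel 1).nondegenerate
    (Classical.isotropicNondeg_hypTower Classical.nondeg_zero_fin 1)

theorem ex_plus : (∃ c : ZMod 2, c ≠ 0 ∧ c ≠ 1) ∨ Fintype.card (Fin 4 ⊕ Fin 4) ≠ 4 :=
  Or.inr (by simp)

theorem index_omega : (Cfsg.Omega (ZMod 2) qPlus).index = 2 := by
  haveI : CharP (ZMod 2) 2 := ZMod.charP 2
  have := Forms.index_Omega_char_two nondeg_plus ex_plus (by simp)
  rwa [Classical.coe_plusForm] at this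

theorem aniso_two : Classical.BinAniso (1 : ZMod 2) 1 := by
  intro x y; revert x y; decide

theorem card_plus : Nat.card (Cfsg.isometryGroup (ZMod 2) qPlus) = 348364800 := by
  have := Classical.natCard_isometryGroup_plus (F := ZMod 2) 3
  rw [Nat.card_zmod] at this
  rw [show qPlus = Cfsg.quadFormPlus (3 + 1) (ZMod 2) from rfl, this]
  norm_num [Finset.prod_range_succ]

theorem card_minus :
    Nat.card (Cfsg.isometryGroup (ZMod 2) (Cfsg.quadFormMinus 3 (ZMod 2) 1 1)) = 394813440 := by
  rw [Classical.natCard_isometryGroup_minus aniso_two 3, Nat.card_zmod]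
  norm_num [Finset.prod_range_succ]

theorem card_omega : Nat.card (Cfsg.Omega (ZMod 2) qPlus) = 174182400 := by
  have h := (Cfsg.Omega (ZMod 2) qPlus).card_mul_index
  rw [index_omega, card_plus] at h
  omega

theorem plus_add (u v : Fin 4 ⊕ Fin 4 → ZMod 2) :
    qPlus (u + v) = qPlus u + qPlus v + ∑ i, u i * v i.swap := by
  simp only [qPlus, Cfsg.quadFormPlus, Fintype.sum_sum_type, Fin.sum_univ_four, Pi.add_apply,
    Sum.swap_inl, Sum.swap_inr]
  ring

theorem minus_add (u v : (Fin 3 ⊕ Fin 3) ⊕ Fin 2 → ZMod 2) :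
    Cfsg.quadFormMinus 3 (ZMod 2) 1 1 (u + v) = Cfsg.quadFormMinus 3 (ZMod 2) 1 1 u
      + Cfsg.quadFormMinus 3 (ZMod 2) 1 1 v + ∑ i, u i * v (minusSwap i) := by
  have h2 : (2 : ZMod 2) = 0 := by decide
  simp only [Cfsg.quadFormMinus, Fintype.sum_sum_type, Fin.sum_univ_three, Fin.sum_univ_two,
    Pi.add_apply, minusSwap, Sum.swap_inl, Sum.swap_inr,
    show (0 : Fin 2).rev = 1 from rfl, show (1 : Fin 2).rev = 0 from rfl]
  linear_combination (u (.inr 0) * v (.inr 0) + u (.inr 1) * v (.inr 1)) * h2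

theorem minusSwap_involutive {k : ℕ} : Function.Involutive (minusSwap (k := k)) := by
  rintro (i | i) <;> simp [minusSwap]

variable {C : Type*} [Group C] [Finite C] {N : Subgroup C} [N.Normal]

/-- The coordinates are of plus type and conjugation induces exactly `Ω`. -/
theorem exists_plus_action [Fact (Nat.Prime 2)] (hN : ExtraLike 2 ↥N) (hcard : Nat.card N = 2 ^ 9)
    (hcent : centralizer (N : Set C) ≤ N) (e : C ⧸ N ≃* Cfsg.Omega (ZMod 2) qPlus) :
    ∃ D : CoordData N qPlus, (D.actHom.ker = N) ∧ D.actHom.range = Cfsg.Omega (ZMod 2) qPlus := by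
  have hindex : N.index = 174182400 := by
    rw [index_eq_card, Nat.card_congr e.toEquiv, card_omega]
  rcases exists_family 3 ↥N (hcard.trans (by norm_num)) hN with ⟨w, hw⟩ | ⟨w, hw⟩
  · obtain ⟨π, hs, hk, hq, hc⟩ := exists_coord_polar hN
      (ι := Fin 4 ⊕ Fin 4) (hcard.trans (by simp)) Sum.swap_swap hw qPlus plus_add
      (by rintro (i | i) <;> simp [qPlus, Cfsg.quadFormPlus, Pi.single_apply])
    let D : CoordData N qPlus := ⟨π, hs, hk, hq, hc⟩
    have hker : D.actHom.ker = N :=
      D.ker_actHom hN hcent (σ := Sum.swap) Sum.swap_swap fun u v => by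
        rw [QuadraticMap.polar, plus_add]; ring
    refine ⟨D, hker, ?_⟩
    have hrange : Nat.card D.actHom.range = 174182400 := by rw [← Subgroup.index_ker, hker, hindex]
    have hidx : D.actHom.range.index = 2 := by
      have h := D.actHom.range.card_mul_index
      rw [hrange, card_plus] at h
      omega
    haveI := normal_of_index_eq_two hidx
    have hle : Cfsg.Omega (ZMod 2) qPlus ≤ D.actHom.range := by
      rw [Cfsg.Omega, _root_.commutator_def]
      refine commutator_le.2 fun a _ b _ => ?_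
      rw [commutatorElement_def, mul_mem_iff_of_index_two hidx, mul_mem_iff_of_index_two hidx,
        mul_mem_iff_of_index_two hidx, inv_mem_iff, inv_mem_iff]
      by_cases ha : a ∈ D.actHom.range <;> by_cases hb : b ∈ D.actHom.range <;> simp [ha, hb]
    exact (eq_of_le_of_card_ge hle (by rw [hrange, card_omega])).symm
  · exfalso
    obtain ⟨π, hs, hk, hq, hc⟩ := exists_coord_polar hN
      (ι := (Fin 3 ⊕ Fin 3) ⊕ Fin 2) (hcard.trans (by simp)) minusSwap_involutive hw
      (Cfsg.quadFormMinus 3 (ZMod 2) 1 1) minus_add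
      (by
        rintro ((i | i) | i) <;> fin_cases i <;>
          simp [Cfsg.quadFormMinus, minusSq, Fin.sum_univ_three, Pi.single_apply])
    let D : CoordData N (Cfsg.quadFormMinus 3 (ZMod 2) 1 1) := ⟨π, hs, hk, hq, hc⟩
    have hker : D.actHom.ker = N :=
      D.ker_actHom hN hcent (σ := minusSwap) minusSwap_involutive fun u v => by
        rw [QuadraticMap.polar, minus_add]; ring
    have h := D.actHom.range.card_subgroup_dvd_card
    rw [← Subgroup.index_ker, hker, hindex, card_minus] at h
    omega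

end Cfsg.Agent.Lib.CoType29
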