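import Mathlib
import Cfsg.Agent.Lib.CoType29.Omega
import Cfsg.Agent.Lib.Components.GenFitting
import Cfsg.Agent.Lib.Forms.CharTwoPoints
import Cfsg.Agent.Lib.Co1Type47.Frame

/-!
# The Conway-type hypotheses give the interface `Co1Type47.Hyp` (written by helper29)
-/

set_option autoImplicit false

namespace Cfsg.Agent.Lib.CoType29

open Subgroup Cfsg.Agent.Lib.ExtraStruct Cfsg.Agent.Lib.ExtraTwoCoord
open scoped commutatorElement

open Co1Type47 (V8 qV bV refl)

/-- The coordinates of `Co1Type47`. -/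
def toV8 : (Fin 4 ⊕ Fin 4 → ZMod 2) ≃+ V8 where
  toFun v := (v (.inl 0), v (.inr 0), ((v (.inl 1), v (.inr 1)), (v (.inl 2), v (.inr 2)),
    (v (.inl 3), v (.inr 3))))
  invFun p := Sum.elim ![p.1, p.2.2.1.1, p.2.2.2.1.1, p.2.2.2.2.1] ![p.2.1, p.2.2.1.2, p.2.2.2.1.2, p.2.2.2.2.2]
  left_inv v := by funext i; rcases i with i | i <;> fin_cases i <;> rfl
  right_inv p := rfl
  map_add' u v := rfl

theorem qV_toV8 (v : Fin 4 ⊕ Fin 4 → ZMod 2) : qV (toV8 v) = qPlus v := by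
  show v (.inl 0) * v (.inr 0) + (v (.inl 1) * v (.inr 1) + v (.inl 2) * v (.inr 2) + v (.inl 3) * v (.inr 3)) = _
  simp only [qPlus, Cfsg.quadFormPlus, Fin.sum_univ_four]
  ring

theorem bV_toV8 (u v : Fin 4 ⊕ Fin 4 → ZMod 2) :
    bV (toV8 u) (toV8 v) = QuadraticMap.polar qPlus u v := by
  have h := Co1Type47.qV_add (toV8 u) (toV8 v)
  rw [← map_add, qV_toV8, qV_toV8, qV_toV8] at h
  rw [QuadraticMap.polar, h]; ring

theorem refl_toV8 {v : Fin 4 ⊕ Fin 4 → ZMod 2} (hv : Classical.plusForm 4 (ZMod 2) v ≠ 0)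
    (x : Fin 4 ⊕ Fin 4 → ZMod 2) :
    refl (toV8 v) (toV8 x) = toV8 (Matrix.mulVec
      ((Forms.reflElem hv : GL (Fin 4 ⊕ Fin 4) (ZMod 2)) : Matrix _ _ (ZMod 2)) x) := by
  have h1 : Classical.plusForm 4 (ZMod 2) v = 1 :=
    (zmod_two_cases _).resolve_left hv
  rw [Forms.reflElem_mulVec hv, h1, inv_one, one_mul, Co1Type47.refl, bV_toV8,
    Classical.coe_plusForm]
  rcases zmod_two_cases (QuadraticMap.polar qPlus v x) with e | e <;> rw [e]
  · simp
  · rw [if_neg one_ne_zero, one_smul, ← map_add]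
    congr 1
    exact funext fun i => by
      simp only [Pi.add_apply, Pi.sub_apply]; rw [CharTwo.sub_eq_add]

variable {C : Type*} [Group C] [Finite C] {N : Subgroup C} [N.Normal]

omit [Finite C] in
theorem refl_not_mem {v : Fin 4 ⊕ Fin 4 → ZMod 2} (hv : Classical.plusForm 4 (ZMod 2) v ≠ 0) :
    Forms.reflElem hv ∉ Cfsg.Omega (ZMod 2) ⇑(Classical.plusForm 4 (ZMod 2)) := fun h => by
  have h1 := MonoidHom.mem_ker.1
    (Abelianization.commutator_subset_ker (Forms.parityHom nondeg_plus ex_plus) h)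
  rw [Forms.parityHom_reflElem nondeg_plus ex_plus hv] at h1
  exact absurd h1 (by decide)

/-- Half of the isometries are induced; the transvections are not. -/
theorem act_cases (D : CoordData N qPlus) (hrange : D.actHom.range = Cfsg.Omega (ZMod 2) qPlus)
    {v : Fin 4 ⊕ Fin 4 → ZMod 2} (hv : qPlus v = 1)
    (T : (Fin 4 ⊕ Fin 4 → ZMod 2) ≃ₗ[ZMod 2] (Fin 4 ⊕ Fin 4 → ZMod 2))
    (hT : ∀ x, qPlus (T x) = qPlus x) :
    ((∃ c, ∀ x, toV8 (D.act c x) = toV8 (T x)) ∨
      ∃ c, ∀ x, toV8 (D.act c x) = toV8 (T (toV8.symm (refl (toV8 v) (toV8 x))))) ∧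
    ∀ c, ¬ ∀ x, toV8 (D.act c x) = refl (toV8 v) (toV8 x) := by
  have hPv : Classical.plusForm 4 (ZMod 2) v ≠ 0 := by
    rw [Classical.coe_plusForm, show Cfsg.quadFormPlus 4 (ZMod 2) v = 1 from hv]; exact one_ne_zero
  set r := Forms.reflElem hPv
  have hidx : (Cfsg.Omega (ZMod 2) ⇑(Classical.plusForm 4 (ZMod 2))).index = 2 := by
    rw [Classical.coe_plusForm]; exact index_omega
  have hmem : ∀ g : Cfsg.isometryGroup (ZMod 2) ⇑(Classical.plusForm 4 (ZMod 2)),
      g ∈ Cfsg.Omega (ZMod 2) ⇑(Classical.plusForm 4 (ZMod 2)) →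
      ∃ c, ∀ x, D.act c x = Matrix.mulVec ((g : GL (Fin 4 ⊕ Fin 4) (ZMod 2)) : Matrix _ _ (ZMod 2)) x := by
    rw [Classical.coe_plusForm]
    intro g hg
    rw [← hrange] at hg
    obtain ⟨c, rfl⟩ := hg
    exact ⟨c, fun x => (D.actHom_mulVec c x).symm⟩
  set g := Forms.isoMk (Q := ⇑(Classical.plusForm 4 (ZMod 2))) T
    (fun x => by rw [Classical.coe_plusForm]; exact hT x) with hg
  refine ⟨?_, fun c hc => ?_⟩
  · by_cases h1 : g ∈ Cfsg.Omega (ZMod 2) ⇑(Classical.plusForm 4 (ZMod 2))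
    · obtain ⟨c, hc⟩ := hmem g h1
      exact Or.inl ⟨c, fun x => by rw [hc, hg, Forms.isoMk_mulVec]⟩
    · obtain ⟨c, hc⟩ := hmem (g * r) ((Subgroup.mul_mem_iff_of_index_two hidx).2
        (iff_of_false h1 (refl_not_mem hPv)))
      refine Or.inr ⟨c, fun x => ?_⟩
      rw [hc, refl_toV8 hPv, AddEquiv.symm_apply_apply, Subgroup.coe_mul, Units.val_mul,
        ← Matrix.mulVec_mulVec, hg, Forms.isoMk_mulVec]
  · have hm : r ∈ Cfsg.Omega (ZMod 2) ⇑(Classical.plusForm 4 (ZMod 2)) := by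
      have key : ∀ g : Cfsg.isometryGroup (ZMod 2) ⇑(Classical.plusForm 4 (ZMod 2)),
          (∀ x, Matrix.mulVec ((g : GL (Fin 4 ⊕ Fin 4) (ZMod 2)) : Matrix _ _ (ZMod 2)) x = D.act c x) →
          g ∈ Cfsg.Omega (ZMod 2) ⇑(Classical.plusForm 4 (ZMod 2)) := by
        rw [Classical.coe_plusForm]
        intro g hg'
        rw [← hrange]
        refine ⟨c, Forms.isoToEquiv_injective _ (LinearEquiv.ext fun x => ?_)⟩
        rw [Forms.isoToEquiv_apply, Forms.isoToEquiv_apply, hg', D.actHom_mulVec]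
      exact key r fun x => toV8.injective (by rw [← refl_toV8 hPv]; exact (hc x).symm)
    exact refl_not_mem hPv hm

theorem exists_hyp {G : Type*} [Group G] [Finite G] (z : G) (hz : orderOf z = 2)
    (Q : Subgroup (Subgroup.centralizer ({z} : Set G))) [Q.Normal]
    (hF : Cfsg.generalizedFittingSubgroup (Subgroup.centralizer ({z} : Set G)) = Q)
    (hQ : Cfsg.IsExtraspecial 2 Q) (hcard : Nat.card Q = 2 ^ 9)
    (e : (Subgroup.centralizer ({z} : Set G)) ⧸ Q ≃*
      Cfsg.Omega (ZMod 2) (Cfsg.quadFormPlus 4 (ZMod 2)))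
    (hnwc : ∃ g : G, (∃ hq : g * z * g⁻¹ ∈ Subgroup.centralizer ({z} : Set G),
      (⟨g * z * g⁻¹, hq⟩ : Subgroup.centralizer ({z} : Set G)) ∈ Q) ∧ g * z * g⁻¹ ≠ z) :
    ∃ Qf : G → Subgroup G, Co1Type47.Hyp z Qf := by
  classical
  haveI : Fact (Nat.Prime 2) := ⟨Nat.prime_two⟩
  have hex : ExtraLike 2 ↥Q := extraLike_of_isExtraspecial hQ
  have hcent : centralizer (Q : Set (Subgroup.centralizer ({z} : Set G))) ≤ Q := by
    have := Components.centralizer_generalizedFittingSubgroup_le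
      (G := Subgroup.centralizer ({z} : Set G))
    rwa [hF] at this
  obtain ⟨D, hker, hrange⟩ := exists_plus_action hex hcard hcent e
  have hC : ∀ {g : G}, g ∈ (centralizer ({z} : Set G)) ↔ g * z = z * g := fun {g} => Subgroup.mem_centralizer_singleton_iff
  let zC : (centralizer ({z} : Set G)) := ⟨z, hC.2 rfl⟩
  have hzQ : zC ∈ Q := by
    apply hcent
    rw [mem_centralizer_iff]
    exact fun a _ => Subtype.ext (hC.1 a.2)
  let zQ : ↥Q := ⟨zC, hzQ⟩
  have hzc : zQ ∈ center ↥Q := mem_center_iff.2 fun a => Subtype.ext (Subtype.ext (hC.1 a.1.2))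
  have hz1 : z ≠ 1 := fun h => by simp [h] at hz
  have hzz : z * z = 1 := by rw [← sq, ← hz]; exact pow_orderOf_eq_one z
  have hzQ1 : zQ ≠ 1 := fun h => hz1 (congrArg (fun a : ↥Q => ((a : (centralizer ({z} : Set G))) : G)) h)
  have hcen : ∀ a : ↥Q, a ∈ center ↥Q → a = 1 ∨ a = zQ := fun a ha =>
    or_iff_not_imp_left.2 fun h1 => eq_of_mem_center_two hex ha h1 hzc hzQ1
  let Qf : G → Subgroup G := fun x => (Cfsg.pCore 2 ↥(Subgroup.centralizer ({x} : Set G))).map
    (Subgroup.centralizer ({x} : Set G)).subtype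
  have hcore : Cfsg.pCore 2 ↥(centralizer ({z} : Set G)) = Q := by
    refine le_antisymm ?_ (PSolvable.le_pCore hQ.1.1)
    haveI : (Cfsg.pCore 2 ↥(centralizer ({z} : Set G))).Normal :=
      @Subgroup.normal_of_characteristic _ _ _ PSolvable.pCore_characteristic
    haveI := Classical.isSimpleGroup_POmega_plus (F := ZMod 2) 1
    let M := ((Cfsg.pCore 2 ↥(centralizer ({z} : Set G))).map (QuotientGroup.mk' Q)).map e.toMonoidHom
    haveI : M.Normal := (Subgroup.Normal.map inferInstance _ (QuotientGroup.mk'_surjective Q)).map _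
      e.surjective
    have hMp : IsPGroup 2 ↥M := (PSolvable.pCore_isPGroup.map _).map _
    have hcentre : Subgroup.center (Cfsg.Omega (ZMod 2) qPlus) = ⊥ := by
      have h := ((Classical.plusModel (F := ZMod 2) 1).natCard_center
        (Classical.isotropicNondeg_hypTower Classical.nondeg_zero_fin 1)).2 (Or.inl CharTwo.two_eq_zero)
      rw [Classical.coe_plusForm] at h
      exact Subgroup.eq_bot_of_card_eq _ h
    haveI : IsSimpleGroup (Cfsg.Omega (ZMod 2) qPlus) := by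
      let φ := QuotientGroup.quotientMulEquivOfEq hcentre
      exact ((φ.trans QuotientGroup.quotientBot).symm).isSimpleGroup
    rcases (inferInstance : M.Normal).eq_bot_or_eq_top with h | h
    · intro x hx
      rw [← QuotientGroup.eq_one_iff]
      exact e.injective (((Subgroup.eq_bot_iff_forall M).1 h _
        ⟨_, ⟨x, hx, rfl⟩, rfl⟩).trans (map_one e).symm)
    · exfalso
      obtain ⟨n, hn⟩ := IsPGroup.iff_card.1 hMp
      rw [h, Subgroup.card_top, card_omega] at hn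
      have h3 : 3 ∣ 2 ^ n := hn ▸ by norm_num
      exact absurd (Nat.prime_three.dvd_of_dvd_pow h3) (by norm_num)
  have hQf : Qf z = Q.map (centralizer ({z} : Set G)).subtype := congrArg (Subgroup.map (centralizer ({z} : Set G)).subtype) hcore
  have hmemQ : ∀ {a : G}, a ∈ Qf z → ∃ b : ↥Q, ((b : (centralizer ({z} : Set G))) : G) = a := fun {a} ha => by
    rw [hQf] at ha
    obtain ⟨b, hb, rfl⟩ := ha
    exact ⟨⟨b, hb⟩, rfl⟩
  have hQmem : ∀ b : ↥Q, ((b : (centralizer ({z} : Set G))) : G) ∈ Qf z := fun b => hQf ▸ ⟨b, b.2, rfl⟩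
  have hinj : ∀ {a b : ↥Q}, ((a : (centralizer ({z} : Set G))) : G) = ((b : (centralizer ({z} : Set G))) : G) → a = b := fun h =>
    Subtype.ext (Subtype.ext h)
  have hgood : LargeExtra.Good (Qf z) z := by
    refine ⟨hQmem zQ, hzz, hz1, ?_, ?_, ?_, ?_, ?_, ?_⟩
    · intro q hq
      obtain ⟨b, rfl⟩ := hmemQ hq
      exact hC.1 b.1.2
    · intro a ha b hb
      obtain ⟨a', rfl⟩ := hmemQ ha
      obtain ⟨b', rfl⟩ := hmemQ hb
      have key : a' * b' * a'⁻¹ = ⁅a', b'⁆ * b' := by rw [commutatorElement_def]; group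
      rcases hcen _ (hex.comm_mem a' b') with h | h <;> rw [h] at key
      · left; simpa using congrArg (fun x : ↥Q => ((x : (centralizer ({z} : Set G))) : G)) key
      · right
        refine (congrArg (fun x : ↥Q => ((x : (centralizer ({z} : Set G))) : G)) key).trans ?_
        exact ((hC.1 b'.1.2).symm : z * _ = _)
    · intro a ha hall
      obtain ⟨a', rfl⟩ := hmemQ ha
      rcases hcen a' (mem_center_iff.2 fun x => hinj (hall _ (hQmem x)).symm) with h | h <;>
        [left; right] <;> rw [h] <;> rfl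
    · obtain ⟨x, y, hxy⟩ := exists_pair hex (by rw [hcard]; norm_num) hzc hzQ1
      refine ⟨_, hQmem x, _, hQmem y, fun h => hzQ1 (hxy ▸ ?_)⟩
      exact commutatorElement_eq_one_iff_mul_comm.2 (hinj h)
    · intro g hg q hq
      obtain ⟨b, rfl⟩ := hmemQ hq
      exact hQmem ⟨(⟨g, hC.2 hg⟩ : (centralizer ({z} : Set G))) * b * (⟨g, hC.2 hg⟩ : (centralizer ({z} : Set G)))⁻¹,
        (inferInstance : Q.Normal).conj_mem _ b.2 _⟩
    · intro g hg
      have hgC : g ∈ (centralizer ({z} : Set G)) := hC.2 (hg z (hQmem zQ))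
      exact hQmem ⟨⟨g, hgC⟩, hcent (mem_centralizer_iff.2 fun a ha =>
        Subtype.ext (hg _ (hQmem ⟨a, ha⟩)).symm)⟩
  let phi : G → V8 := fun a => if h : ∃ b : ↥Q, ((b : (centralizer ({z} : Set G))) : G) = a then toV8 (D.co h.choose) else 0
  have hphi : ∀ b : ↥Q, phi ((b : (centralizer ({z} : Set G))) : G) = toV8 (D.co b) := fun b => by
    have h : ∃ b' : ↥Q, ((b' : (centralizer ({z} : Set G))) : G) = ((b : (centralizer ({z} : Set G))) : G) := ⟨b, rfl⟩
    simp only [phi, dif_pos h]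
    rw [hinj h.choose_spec]
  let act : G → V8 → V8 := fun c v =>
    if h : c ∈ (centralizer ({z} : Set G)) then toV8 (D.act ⟨c, h⟩ (toV8.symm v)) else v
  have hact : ∀ (c : (centralizer ({z} : Set G))) (v : Fin 4 ⊕ Fin 4 → ZMod 2), act c (toV8 v) = toV8 (D.act c v) := fun c v => by
    simp only [act, dif_pos c.2, AddEquiv.symm_apply_apply]
  refine ⟨Qf, fun x => rfl, hgood, ⟨{
    card := ?_
    phi := phi
    phi_mul := ?_
    phi_surj := ?_
    phi_eq_zero := ?_
    sq_iff := ?_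
    comm_iff := ?_
    act := act
    act_phi := ?_
    act_eq_id := ?_
    act_iso := ?_
    exists_act := ?_
    act_ne_refl := ?_ }⟩, ?_, ?_⟩
  · rw [hQf, ← Nat.card_congr (Subgroup.equivMapOfInjective Q _ (centralizer ({z} : Set G)).subtype_injective).toEquiv, hcard]
    norm_num
  · intro a ha b hb
    obtain ⟨a', rfl⟩ := hmemQ ha
    obtain ⟨b', rfl⟩ := hmemQ hb
    rw [show ((a' : (centralizer ({z} : Set G))) : G) * ((b' : (centralizer ({z} : Set G))) : G) = (((a' * b' : ↥Q) : (centralizer ({z} : Set G))) : G) from rfl,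
      hphi, hphi, hphi, D.co_mul, map_add]
  · intro v
    exact ⟨_, hQmem (D.rep (toV8.symm v)), by rw [hphi, D.co_rep, AddEquiv.apply_symm_apply]⟩
  · intro a ha
    obtain ⟨a', rfl⟩ := hmemQ ha
    rw [hphi, AddEquiv.map_eq_zero_iff, D.co_eq_zero]
    constructor
    · intro h
      rcases hcen a' h with h | h <;> [left; right] <;> rw [h] <;> rfl
    · rintro (h | h)
      · rw [show a' = 1 from hinj h]; exact one_mem _
      · rw [show a' = zQ from hinj h]; exact hzc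
  · intro a ha
    obtain ⟨a', rfl⟩ := hmemQ ha
    rw [hphi, qV_toV8]
    show _ ↔ qPlus (Multiplicative.toAdd (D.π a')) = 0
    rw [← D.sq, bit_eq_zero, sq]
    exact ⟨fun h => hinj h, fun h => congrArg (fun x : ↥Q => ((x : (centralizer ({z} : Set G))) : G)) h⟩
  · intro a ha b hb
    obtain ⟨a', rfl⟩ := hmemQ ha
    obtain ⟨b', rfl⟩ := hmemQ hb
    rw [hphi, hphi, bV_toV8]
    show _ ↔ QuadraticMap.polar qPlus (Multiplicative.toAdd (D.π a')) (Multiplicative.toAdd (D.π b')) = 0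
    rw [← D.comm, bit_eq_zero, commutatorElement_eq_one_iff_mul_comm]
    exact ⟨fun h => hinj h, fun h => congrArg (fun x : ↥Q => ((x : (centralizer ({z} : Set G))) : G)) h⟩
  · intro c hc a ha
    obtain ⟨a', rfl⟩ := hmemQ ha
    let c' : (centralizer ({z} : Set G)) := ⟨c, hC.2 hc⟩
    rw [show c * ((a' : (centralizer ({z} : Set G))) : G) * c⁻¹ = ((MulAut.conjNormal c' a' : ↥Q) : (centralizer ({z} : Set G))) from rfl, hphi, hphi,
      D.co_conj]
    exact (hact c' _).symm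
  · intro c hc h
    let c' : (centralizer ({z} : Set G)) := ⟨c, hC.2 hc⟩
    have : c' ∈ D.actHom.ker := D.actHom_eq_one_iff.2 fun v =>
      toV8.injective ((hact c' v).symm.trans (h (toV8 v)))
    exact hQmem ⟨c', hker ▸ this⟩
  · intro c hc v
    obtain ⟨w, rfl⟩ := toV8.surjective v
    rw [hact ⟨c, hC.2 hc⟩ w, qV_toV8, qV_toV8, D.act_iso]
  · intro g v hv
    obtain ⟨w, rfl⟩ := toV8.surjective v
    rw [qV_toV8] at hv
    let A : (Fin 4 ⊕ Fin 4 → ZMod 2) ≃+ (Fin 4 ⊕ Fin 4 → ZMod 2) := (toV8.trans g.map).trans toV8.symm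
    let T : (Fin 4 ⊕ Fin 4 → ZMod 2) ≃ₗ[ZMod 2] (Fin 4 ⊕ Fin 4 → ZMod 2) :=
      { A with map_smul' := fun t x => map_smul (A.toAddMonoidHom.toZModLinearMap 2) t x }
    have hTA : ∀ x, toV8 (T x) = g.map (toV8 x) := fun x => toV8.apply_symm_apply _
    have hT : ∀ x, qPlus (T x) = qPlus x := fun x => by
      rw [← qV_toV8, ← qV_toV8, hTA, g.iso]
    rcases (act_cases D hrange hv T hT).1 with ⟨c, hc⟩ | ⟨c, hc⟩
    · refine Or.inl ⟨c, hC.1 c.2, fun x => ?_⟩
      obtain ⟨y, rfl⟩ := toV8.surjective x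
      rw [hact, hc, hTA]
    · refine Or.inr ⟨c, hC.1 c.2, fun x => ?_⟩
      obtain ⟨y, rfl⟩ := toV8.surjective x
      rw [hact, hc, hTA, AddEquiv.apply_symm_apply]
  · intro c hc v hv h
    obtain ⟨w, rfl⟩ := toV8.surjective v
    rw [qV_toV8] at hv
    exact (act_cases D hrange hv (LinearEquiv.refl _ _) fun _ => rfl).2 ⟨c, hC.2 hc⟩
      fun x => (hact ⟨c, hC.2 hc⟩ x).symm.trans (h (toV8 x))
  · obtain ⟨g, ⟨hq, hqQ⟩, hne⟩ := hnwc
    exact ⟨g, hQmem ⟨⟨_, hq⟩, hqQ⟩, hne⟩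
  · intro x hx
    obtain ⟨T, hT⟩ := ((hQ.1.1).map (centralizer ({z} : Set G)).subtype).exists_le_sylow
    have hTC : ∀ t ∈ (T : Subgroup G), t * z = z * t := by
      haveI : Nontrivial ↥(T : Subgroup G) :=
        ⟨⟨⟨z, hT ⟨zC, hzQ, rfl⟩⟩, 1, fun h => hz1 (congrArg Subtype.val h)⟩⟩
      haveI := T.isPGroup'.center_nontrivial
      obtain ⟨⟨w, hw⟩, hw1⟩ := exists_ne (1 : ↥(Subgroup.center ↥(T : Subgroup G)))
      have hwT : ∀ t ∈ (T : Subgroup G), (w : G) * t = t * w := fun t ht =>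
        congrArg Subtype.val (mem_center_iff.1 hw ⟨t, ht⟩).symm
      obtain h | h := hgood.centre _
        (hgood.cent (w : G) fun q hq => hwT q (hT (hQf ▸ hq)))
        (fun q hq => hwT q (hT (hQf ▸ hq)))
      · exact absurd (Subtype.ext (Subtype.ext h)) hw1
      · intro t ht
        rw [← h]; exact (hwT t ht).symm
    have hP : IsPGroup 2 ↥(Subgroup.zpowers x) := by
      intro a
      obtain ⟨k, hk⟩ := Subgroup.mem_zpowers_iff.1 a.2
      refine ⟨1, Subtype.ext ?_⟩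
      rw [pow_one, SubgroupClass.coe_pow, ← hk, ← zpow_natCast, ← zpow_mul, mul_comm, zpow_mul,
        zpow_natCast, sq, hx, one_zpow]
      rfl
    obtain ⟨S, hS⟩ := hP.exists_le_sylow
    obtain ⟨g, hg⟩ := MulAction.exists_smul_eq G S T
    refine ⟨g, hTC _ ?_⟩
    rw [← hg, Sylow.smul_def]
    exact ⟨x, hS (Subgroup.mem_zpowers x), rfl⟩

end Cfsg.Agent.Lib.CoType29
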